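import Cfsg.Agent.H980.RB.Weil

/-!
# Cutting a character along a subgroup of order three (S2464, `F₄(3)`; helper980)

* `fixM ρ S` : the vectors fixed by a set `S`;
* `norm_trace_le_fix` : `Q` acts abelian, `g` normalises `Q`: `‖tr g‖ ≤ dim` of the fixed space of `[Q, g]`;
* `ratio` : `z` of order `3`, `Q` with `Q/⟨z⟩` abelian and nondegenerate commutator form, `g` normalises `Q` and commutes with `z`:
  `‖tr g‖ ≤ dim V^(z, [Q, g]) + (dim V - dim V^z) * √(|{x ∈ Q : [x, g] ∈ ⟨z⟩}| / |Q|)`;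
* `ratio_zero` : if `[x, g] = z` for some `x ∈ Q`: `‖tr g‖ ≤ dim V^(z, [Q, g])`.
-/

set_option autoImplicit false

namespace Cfsg.Agent.H980.RB

open Module

variable {G : Type*} [Group G] {V : Type*} [AddCommGroup V] [Module ℂ V]

/-- the vectors fixed by the set `S` -/
def fixM (ρ : Representation ℂ G V) (S : Set G) : Submodule ℂ V where
  carrier := {v | ∀ s ∈ S, ρ s v = v}
  add_mem' := fun {v w} hv hw s hs => by rw [map_add, hv s hs, hw s hs]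
  zero_mem' := fun s _ => map_zero _
  smul_mem' := fun c v hv s hs => by rw [map_smul, hv s hs]

theorem mem_fixM {ρ : Representation ℂ G V} {S : Set G} {v : V} : v ∈ fixM ρ S ↔ ∀ s ∈ S, ρ s v = v := Iff.rfl

/-- the restriction of `ρ` to a subgroup and an invariant subspace -/
def subRep (ρ : Representation ℂ G V) (P : Subgroup G) (W : Submodule ℂ V) (hW : ∀ p ∈ P, ∀ w ∈ W, ρ p w ∈ W) :
    Representation ℂ ↥P ↥W where
  toFun := fun p => (ρ p).restrict (hW p p.2)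
  map_one' := by
    ext w
    simp
  map_mul' := fun p p' => by
    ext w
    simp

theorem subRep_apply (ρ : Representation ℂ G V) (P : Subgroup G) (W : Submodule ℂ V) (hW : ∀ p ∈ P, ∀ w ∈ W, ρ p w ∈ W)
    (p : ↥P) (w : ↥W) : ((subRep ρ P W hW p w : ↥W) : V) = ρ p w := rfl

/-- trace of `e ∘ ρ g` for a projection `e` onto an invariant subspace -/
theorem trace_proj [FiniteDimensional ℂ V] (ρ : Representation ℂ G V) (P : Subgroup G) (W : Submodule ℂ V)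
    (hW : ∀ p ∈ P, ∀ w ∈ W, ρ p w ∈ W) (e : V →ₗ[ℂ] V) (he : ∀ v, e v ∈ W) (he' : ∀ w ∈ W, e w = w) (g : ↥P) :
    LinearMap.trace ℂ V (e * ρ g) = LinearMap.trace ℂ W (subRep ρ P W hW g) := by
  rw [← LinearMap.trace_restrict_eq_of_forall_mem W (e * ρ g) (fun x => he _)]
  congr 1
  ext w
  simp only [LinearMap.coe_restrict_apply, Module.End.mul_apply]
  rw [he' _ (hW g g.2 w w.2), subRep_apply]

/-- the trivial bound -/
theorem norm_trace_le [Finite G] [FiniteDimensional ℂ V] (ρ : Representation ℂ G V) (g : G) :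
    ‖LinearMap.trace ℂ V (ρ g)‖ ≤ finrank ℂ V := by
  have h := weil ρ (⊥ : Subgroup G) ⊥ (fun z hz => ⟨1, by rw [Subgroup.mem_bot.1 hz, map_one, one_smul]⟩)
    (fun q hq hq' => absurd hq hq') le_rfl g (fun q hq => by
      rw [Subgroup.mem_bot.1 hq]; simp) (fun z hz q hq => by
      rw [Subgroup.mem_bot.1 hz, Subgroup.mem_bot.1 hq])
  have h1 : Nat.card {x : ↥(⊥ : Subgroup G) // (x : G) * g * (x : G)⁻¹ * g⁻¹ ∈ (⊥ : Subgroup G)} ≤ 1 := by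
    have h2 := Finite.card_subtype_le (fun x : ↥(⊥ : Subgroup G) => (x : G) * g * (x : G)⁻¹ * g⁻¹ ∈ (⊥ : Subgroup G))
    rwa [Subgroup.card_bot] at h2
  rw [Subgroup.card_bot, Nat.cast_one, mul_one] at h
  have h3 : ‖LinearMap.trace ℂ V (ρ g)‖ ^ 2 ≤ (finrank ℂ V : ℝ) ^ 2 := by
    refine h.trans ?_
    have h4 : ((Nat.card {x : ↥(⊥ : Subgroup G) // (x : G) * g * (x : G)⁻¹ * g⁻¹ ∈ (⊥ : Subgroup G)} : ℕ) : ℝ) ≤ 1 := by
      exact_mod_cast h1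
    nlinarith [sq_nonneg (finrank ℂ V : ℝ)]
  exact le_of_sq_le_sq h3 (Nat.cast_nonneg _)

/-- the commutators `[q, g]`, `q ∈ Q` -/
def comSet (Q : Subgroup G) (g : G) : Set G := {r | ∃ q ∈ Q, r = q * g * q⁻¹ * g⁻¹}

/-- **The fixed part.** `Q` acts as an abelian group and is normalised by `g`: `‖tr g‖` is at most the dimension of the
space of the vectors fixed by `[Q, g]`. -/
theorem norm_trace_le_fix [Finite G] [FiniteDimensional ℂ V] (ρ : Representation ℂ G V) (Q : Subgroup G)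
    (hQ : ∀ q ∈ Q, ∀ q' ∈ Q, ρ q * ρ q' = ρ q' * ρ q) (g : G) (hg : ∀ q, q ∈ Q ↔ g * q * g⁻¹ ∈ Q) :
    ‖LinearMap.trace ℂ V (ρ g)‖ ≤ finrank ℂ ↥(fixM ρ (comSet Q g)) := by
  classical
  have := Fintype.ofFinite ↥Q
  set W := fixM ρ (comSet Q g) with hW
  have hN : (Fintype.card ↥Q : ℂ) ≠ 0 := by
    exact_mod_cast Fintype.card_ne_zero
  have hcm : ∀ q ∈ Q, q * g * q⁻¹ * g⁻¹ ∈ Q := by
    intro q hq
    have h1 := (hg _).1 (Q.inv_mem hq)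
    have h2 : q * g * q⁻¹ * g⁻¹ = q * (g * q⁻¹ * g⁻¹) := by group
    rw [h2]
    exact Q.mul_mem hq h1
  set e : V →ₗ[ℂ] V := (Fintype.card ↥Q : ℂ)⁻¹ • ∑ q : ↥Q, ρ ((q : G) * g * (q : G)⁻¹ * g⁻¹) with he
  have hmul : ∀ q q' : ↥Q, ρ (((q * q' : ↥Q) : G) * g * ((q * q' : ↥Q) : G)⁻¹ * g⁻¹) =
      ρ ((q' : G) * g * (q' : G)⁻¹ * g⁻¹) * ρ ((q : G) * g * (q : G)⁻¹ * g⁻¹) := by
    intro q q'
    have h1 : ((q * q' : ↥Q) : G) * g * ((q * q' : ↥Q) : G)⁻¹ * g⁻¹ =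
        (q : G) * ((q' : G) * g * (q' : G)⁻¹ * g⁻¹) * (q : G)⁻¹ * ((q : G) * g * (q : G)⁻¹ * g⁻¹) := by
      rw [Subgroup.coe_mul]; group
    have h2 : ρ (q : G) * ρ (q : G)⁻¹ = 1 := by rw [← map_mul, mul_inv_cancel, map_one]
    rw [h1, map_mul, map_mul, map_mul, hQ _ q.2 _ (hcm _ q'.2), mul_assoc (ρ ((q' : G) * g * (q' : G)⁻¹ * g⁻¹)), h2, mul_one]
  have heW : ∀ v, e v ∈ W := by
    rintro v r ⟨q, hq, rfl⟩
    rw [he, LinearMap.smul_apply, map_smul, LinearMap.sum_apply, map_sum]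
    congr 1
    rw [← Equiv.sum_comp (Equiv.mulRight (⟨q, hq⟩ : ↥Q)) (fun q' : ↥Q => ρ ((q' : G) * g * (q' : G)⁻¹ * g⁻¹) v)]
    refine Finset.sum_congr rfl fun q' _ => ?_
    rw [Equiv.coe_mulRight, hmul q' ⟨q, hq⟩]
    rfl
  have heW' : ∀ w ∈ W, e w = w := by
    intro w hw
    rw [he, LinearMap.smul_apply, LinearMap.sum_apply]
    have h1 : ∀ q : ↥Q, ρ ((q : G) * g * (q : G)⁻¹ * g⁻¹) w = w := fun q => hw _ ⟨q, q.2, rfl⟩
    rw [Finset.sum_congr rfl fun q _ => h1 q, Finset.sum_const, Finset.card_univ, ← Nat.cast_smul_eq_nsmul ℂ, smul_smul,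
      inv_mul_cancel₀ hN, one_smul]
  have hgW : ∀ w ∈ W, ρ g w ∈ W := by
    rintro w hw r ⟨q, hq, rfl⟩
    have h1 : g⁻¹ * q * g ∈ Q := by
      rw [hg]
      have : g * (g⁻¹ * q * g) * g⁻¹ = q := by group
      rwa [this]
    have h2 := hw _ ⟨g⁻¹ * q * g, h1, rfl⟩
    rw [← Module.End.mul_apply, ← map_mul]
    have h3 : q * g * q⁻¹ * g⁻¹ * g = g * (g⁻¹ * q * g * g * (g⁻¹ * q * g)⁻¹ * g⁻¹) := by group
    rw [h3, map_mul, Module.End.mul_apply, h2]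
  have hgi : ∀ w ∈ W, ρ g⁻¹ w ∈ W := by
    have hfin := isOfFinOrder_of_finite g
    obtain ⟨n, hn⟩ : ∃ n : ℕ, g⁻¹ = g ^ n := by
      obtain ⟨n, hn⟩ := hfin.mem_powers_iff_mem_zpowers.2 (Subgroup.inv_mem _ (Subgroup.mem_zpowers g))
      exact ⟨n, hn.symm⟩
    rw [hn]
    clear hn
    induction n with
    | zero => intro w hw; simpa using hw
    | succ k ih =>
      intro w hw
      rw [pow_succ, map_mul, Module.End.mul_apply]
      exact ih _ (hgW w hw)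
  have hPW : ∀ p ∈ Subgroup.zpowers g, ∀ w ∈ W, ρ p w ∈ W := by
    rintro p ⟨k, rfl⟩
    induction k using Int.induction_on with
    | zero => intro w hw; simpa using hw
    | succ k ih =>
      intro w hw
      show ρ (g ^ ((k : ℤ) + 1)) w ∈ W
      rw [zpow_add_one, map_mul, Module.End.mul_apply]
      exact ih _ (hgW w hw)
    | pred k ih =>
      intro w hw
      show ρ (g ^ (-(k : ℤ) - 1)) w ∈ W
      rw [zpow_sub_one, map_mul, Module.End.mul_apply]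
      exact ih _ (hgi w hw)
  have htr : LinearMap.trace ℂ V (ρ g) = LinearMap.trace ℂ V (e * ρ g) := by
    rw [he, smul_mul_assoc, Finset.sum_mul, map_smul, map_sum]
    have h1 : ∀ q : ↥Q, LinearMap.trace ℂ V (ρ ((q : G) * g * (q : G)⁻¹ * g⁻¹) * ρ g) = LinearMap.trace ℂ V (ρ g) := by
      intro q
      rw [← map_mul, inv_mul_cancel_right, map_mul ρ, map_mul ρ, LinearMap.trace_mul_comm, ← mul_assoc, ← map_mul,
        inv_mul_cancel, map_one, one_mul]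
    rw [Finset.sum_congr rfl fun q _ => h1 q, Finset.sum_const, Finset.card_univ, nsmul_eq_mul, smul_eq_mul, ← mul_assoc,
      inv_mul_cancel₀ hN, one_mul]
  rw [htr, trace_proj ρ (Subgroup.zpowers g) W hPW e heW heW' ⟨g, Subgroup.mem_zpowers g⟩]
  exact norm_trace_le _ _

/-! ### the cut along an element of order three -/

/-- the restriction of `ρ` to an invariant subspace -/
def resRep (ρ : Representation ℂ G V) (W : Submodule ℂ V) (hW : ∀ p : G, ∀ w ∈ W, ρ p w ∈ W) : Representation ℂ G ↥W where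
  toFun := fun p => (ρ p).restrict (hW p)
  map_one' := by
    ext w
    simp
  map_mul' := fun p p' => by
    ext w
    simp

theorem resRep_apply (ρ : Representation ℂ G V) (W : Submodule ℂ V) (hW : ∀ p : G, ∀ w ∈ W, ρ p w ∈ W)
    (p : G) (w : ↥W) : ((resRep ρ W hW p w : ↥W) : V) = ρ p w := rfl

/-- trace of `e ∘ ρ g` for a projection `e` onto an invariant subspace -/
theorem trace_proj' [FiniteDimensional ℂ V] (ρ : Representation ℂ G V) (W : Submodule ℂ V)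
    (hW : ∀ p : G, ∀ w ∈ W, ρ p w ∈ W) (e : V →ₗ[ℂ] V) (he : ∀ v, e v ∈ W) (he' : ∀ w ∈ W, e w = w) (g : G) :
    LinearMap.trace ℂ V (e * ρ g) = LinearMap.trace ℂ W (resRep ρ W hW g) := by
  rw [← LinearMap.trace_restrict_eq_of_forall_mem W (e * ρ g) (fun x => he _)]
  congr 1
  ext w
  simp only [LinearMap.coe_restrict_apply, Module.End.mul_apply]
  rw [he' _ (hW g w w.2), resRep_apply]

/-- the eigenspace of `z` -/
def eigM (ρ : Representation ℂ G V) (z : G) (ζ : ℂ) : Submodule ℂ V where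
  carrier := {v | ρ z v = ζ • v}
  add_mem' := fun {v w} hv hw => by
    show ρ z (v + w) = ζ • (v + w)
    rw [map_add, smul_add]
    exact congrArg₂ _ hv hw
  zero_mem' := by
    show ρ z 0 = ζ • (0 : V)
    rw [map_zero, smul_zero]
  smul_mem' := fun c v hv => by
    show ρ z (c • v) = ζ • (c • v)
    rw [map_smul, smul_comm ζ c v]
    exact congrArg _ hv

theorem mem_eigM {ρ : Representation ℂ G V} {z : G} {ζ : ℂ} {v : V} : v ∈ eigM ρ z ζ ↔ ρ z v = ζ • v := Iff.rfl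

/-- the projection onto the eigenspace -/
noncomputable def prj (ρ : Representation ℂ G V) (z : G) (ζ : ℂ) : V →ₗ[ℂ] V :=
  (3 : ℂ)⁻¹ • (1 + ζ ^ 2 • ρ z + ζ • ρ (z ^ 2))

theorem prj_mem {ρ : Representation ℂ G V} {z : G} (hz : z ^ 3 = 1) {ζ : ℂ} (hζ : ζ ^ 3 = 1) (v : V) :
    prj ρ z ζ v ∈ eigM ρ z ζ := by
  have h3 : ρ z (ρ (z ^ 2) v) = v := by
    rw [← Module.End.mul_apply, ← map_mul, ← pow_succ', hz, map_one, Module.End.one_apply]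
  have h2 : ρ z (ρ z v) = ρ (z ^ 2) v := by rw [← Module.End.mul_apply, ← map_mul, ← pow_two]
  rw [mem_eigM, prj]
  simp only [LinearMap.smul_apply, LinearMap.add_apply, Module.End.one_apply, map_smul, map_add, h3, h2]
  rw [smul_comm ζ ((3 : ℂ)⁻¹)]
  congr 1
  rw [smul_add, smul_add, smul_smul, smul_smul]
  have h4 : ζ * ζ ^ 2 = 1 := by rw [← pow_succ', hζ]
  rw [h4, one_smul, ← pow_two]
  abel

theorem prj_eq {ρ : Representation ℂ G V} {z : G} {ζ : ℂ} (hζ : ζ ^ 3 = 1) {v : V} (hv : v ∈ eigM ρ z ζ) :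
    prj ρ z ζ v = v := by
  rw [mem_eigM] at hv
  have h2 : ρ (z ^ 2) v = ζ ^ 2 • v := by
    rw [pow_two, map_mul, Module.End.mul_apply, hv, map_smul, hv, smul_smul, pow_two]
  rw [prj]
  simp only [LinearMap.smul_apply, LinearMap.add_apply, Module.End.one_apply, hv, h2, smul_smul]
  have h4 : ζ ^ 2 * ζ = 1 := by rw [← pow_succ, hζ]
  have h5 : ζ * ζ ^ 2 = 1 := by rw [← pow_succ', hζ]
  rw [h4, h5, one_smul]
  have h6 : v + v + v = (3 : ℂ) • v := by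
    rw [show (3 : ℂ) = 1 + 1 + 1 by norm_num, add_smul, add_smul, one_smul]
  rw [h6, smul_smul, inv_mul_cancel₀ (by norm_num), one_smul]

/-- the three projections add up to `1` -/
theorem prj_sum (ρ : Representation ℂ G V) (z : G) {ω : ℂ} (hω : IsPrimitiveRoot ω 3) :
    prj ρ z 1 + prj ρ z ω + prj ρ z (ω ^ 2) = 1 := by
  have h1 : 1 + ω + ω ^ 2 = 0 := by
    have := hω.geom_sum_eq_zero (by norm_num)
    simpa [Finset.sum_range_succ] using this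
  have h3 : ω ^ 3 = 1 := hω.pow_eq_one
  have h4 : (ω ^ 2) ^ 2 = ω := by
    calc (ω ^ 2) ^ 2 = ω ^ 3 * ω := by ring
      _ = ω := by rw [h3, one_mul]
  simp only [prj, one_pow, one_smul]
  rw [h4, ← smul_add, ← smul_add]
  have h5 : (1 + ρ z + ρ (z ^ 2) + (1 + ω ^ 2 • ρ z + ω • ρ (z ^ 2)) + (1 + ω • ρ z + ω ^ 2 • ρ (z ^ 2)) : V →ₗ[ℂ] V) =
      (3 : ℂ) • 1 + ((1 + ω + ω ^ 2) • ρ z + (1 + ω + ω ^ 2) • ρ (z ^ 2)) := by
    rw [show (3 : ℂ) = 1 + 1 + 1 by norm_num]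
    simp only [add_smul, one_smul]
    abel
  rw [h5, h1, zero_smul, zero_smul, add_zero, add_zero, smul_smul, inv_mul_cancel₀ (by norm_num), one_smul]

/-- invariance of the eigenspaces of a central element -/
theorem eigM_inv {ρ : Representation ℂ G V} {z : G} (hzc : ∀ p : G, p * z = z * p) (ζ : ℂ) :
    ∀ p : G, ∀ w ∈ eigM ρ z ζ, ρ p w ∈ eigM ρ z ζ := by
  intro p w hw
  rw [mem_eigM] at hw ⊢
  rw [← Module.End.mul_apply, ← map_mul, ← hzc, map_mul, Module.End.mul_apply, hw, map_smul]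

theorem exists_pow_of_mem {z r : G} (hz : z ^ 3 = 1) (h : r ∈ Subgroup.zpowers z) : ∃ k : ℕ, r = z ^ k := by
  have h1 : IsOfFinOrder z := isOfFinOrder_iff_pow_eq_one.2 ⟨3, by norm_num, hz⟩
  obtain ⟨k, hk⟩ := h1.mem_powers_iff_mem_zpowers.2 h
  exact ⟨k, hk.symm⟩

theorem res_pow {ρ : Representation ℂ G V} {z : G} (hzc : ∀ p : G, p * z = z * p) (ζ : ℂ) (k : ℕ) :
    resRep ρ (eigM ρ z ζ) (eigM_inv hzc ζ) (z ^ k) = ζ ^ k • 1 := by
  rw [map_pow]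
  have h1 : resRep ρ (eigM ρ z ζ) (eigM_inv hzc ζ) z = ζ • 1 := by
    ext w
    rw [resRep_apply]
    exact w.2
  rw [h1, smul_pow, one_pow]

section cut

variable [Finite G] [FiniteDimensional ℂ V] {ρ : Representation ℂ G V} {z : G} {Q : Subgroup G} {g : G}

/-- the faithful part -/
theorem faithful_le (hz3 : z ^ 3 = 1) (hzc : ∀ p : G, p * z = z * p) (hzQ : z ∈ Q)
    (hnd : ∀ q ∈ Q, q ∉ Subgroup.zpowers z → ∃ q' ∈ Q, q' * q * q'⁻¹ * q⁻¹ ∈ Subgroup.zpowers z ∧ q' * q * q'⁻¹ * q⁻¹ ≠ 1)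
    (hg : ∀ q, q ∈ Q ↔ g * q * g⁻¹ ∈ Q) {ζ : ℂ} (hζ : IsPrimitiveRoot ζ 3) :
    ‖LinearMap.trace ℂ V (prj ρ z ζ * ρ g)‖ ^ 2 * Nat.card Q ≤ (finrank ℂ ↥(eigM ρ z ζ) : ℝ) ^ 2 *
      Nat.card {x : ↥Q // (x : G) * g * (x : G)⁻¹ * g⁻¹ ∈ Subgroup.zpowers z} := by
  rw [trace_proj' ρ (eigM ρ z ζ) (eigM_inv hzc ζ) (prj ρ z ζ) (prj_mem hz3 hζ.pow_eq_one)
    (fun w hw => prj_eq hζ.pow_eq_one hw)]
  refine weil (resRep ρ (eigM ρ z ζ) (eigM_inv hzc ζ)) Q (Subgroup.zpowers z) ?_ ?_ ?_ g (fun q hq => (hg q).1 hq) ?_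
  · intro r hr
    obtain ⟨k, rfl⟩ := exists_pow_of_mem hz3 hr
    exact ⟨_, res_pow hzc ζ k⟩
  · intro q hq hqz
    obtain ⟨q', -, h1, h2⟩ := hnd q hq hqz
    obtain ⟨k, hk⟩ := exists_pow_of_mem hz3 h1
    refine ⟨q', ζ ^ k, ?_, ?_⟩
    · intro h3
      obtain ⟨m, hm⟩ := hζ.dvd_of_pow_eq_one k h3
      apply h2
      rw [hk, hm, pow_mul, hz3, one_pow]
    · rw [hk]
      exact res_pow hzc ζ k
  · rw [Subgroup.zpowers_le]
    exact hzQ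
  · intro r hr q _
    obtain ⟨k, rfl⟩ := exists_pow_of_mem hz3 hr
    have h1 : Commute q z := hzc q
    exact (h1.pow_right k).eq.symm

omit [Finite G] in
/-- the faithful part vanishes -/
theorem faithful_zero (hz3 : z ^ 3 = 1) (hzc : ∀ p : G, p * z = z * p) {x : G}
    (hx : x * g * x⁻¹ * g⁻¹ ∈ Subgroup.zpowers z) (hx1 : x * g * x⁻¹ * g⁻¹ ≠ 1) {ζ : ℂ} (hζ : IsPrimitiveRoot ζ 3) :
    LinearMap.trace ℂ V (prj ρ z ζ * ρ g) = 0 := by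
  rw [trace_proj' ρ (eigM ρ z ζ) (eigM_inv hzc ζ) (prj ρ z ζ) (prj_mem hz3 hζ.pow_eq_one)
    (fun w hw => prj_eq hζ.pow_eq_one hw)]
  obtain ⟨k, hk⟩ := exists_pow_of_mem hz3 hx
  refine weil_zero (resRep ρ (eigM ρ z ζ) (eigM_inv hzc ζ)) (g := g) (x := x) (c := ζ ^ k) ?_ ?_
  · intro h3
    obtain ⟨m, hm⟩ := hζ.dvd_of_pow_eq_one k h3
    apply hx1
    rw [hk, hm, pow_mul, hz3, one_pow]
  · rw [hk]
    exact res_pow hzc ζ k

/-- the part with trivial `z` -/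
theorem fixed_le (hz3 : z ^ 3 = 1) (hzc : ∀ p : G, p * z = z * p)
    (hQZ : ∀ q ∈ Q, ∀ q' ∈ Q, q * q' * q⁻¹ * q'⁻¹ ∈ Subgroup.zpowers z) (hg : ∀ q, q ∈ Q ↔ g * q * g⁻¹ ∈ Q) :
    ‖LinearMap.trace ℂ V (prj ρ z 1 * ρ g)‖ ≤ finrank ℂ ↥(fixM ρ (insert z (comSet Q g))) := by
  rw [trace_proj' ρ (eigM ρ z 1) (eigM_inv hzc 1) (prj ρ z 1) (prj_mem hz3 (one_pow 3))
    (fun w hw => prj_eq (one_pow 3) hw)]
  refine (norm_trace_le_fix (resRep ρ (eigM ρ z 1) (eigM_inv hzc 1)) Q ?_ g hg).trans ?_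
  · intro q hq q' hq'
    obtain ⟨k, hk⟩ := exists_pow_of_mem hz3 (hQZ q hq q' hq')
    have h1 : q * q' = (q * q' * q⁻¹ * q'⁻¹) * (q' * q) := by group
    rw [← map_mul, h1, hk, map_mul, res_pow hzc, one_pow, one_smul, one_mul, map_mul]
  · have h1 : (fixM (resRep ρ (eigM ρ z 1) (eigM_inv hzc 1)) (comSet Q g)).map (eigM ρ z 1).subtype ≤
        fixM ρ (insert z (comSet Q g)) := by
      rintro v ⟨w, hw, rfl⟩ s hs
      rcases hs with rfl | hs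
      · have h2 := w.2
        rw [mem_eigM, one_smul] at h2
        exact h2
      · have h2 := hw s hs
        exact congrArg (fun u : ↥(eigM ρ z 1) => (u : V)) h2
    have h2 := Submodule.finrank_mono h1
    rw [← (Submodule.equivMapOfInjective (eigM ρ z 1).subtype Subtype.val_injective _).finrank_eq] at h2
    exact_mod_cast h2

omit [Finite G] in
/-- the dimension of the eigenspaces -/
theorem finrank_eig (ρ : Representation ℂ G V) (hz3 : z ^ 3 = 1) (hzc : ∀ p : G, p * z = z * p) {ω : ℂ}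
    (hω : IsPrimitiveRoot ω 3) :
    (finrank ℂ ↥(eigM ρ z ω) : ℝ) + finrank ℂ ↥(eigM ρ z (ω ^ 2)) = finrank ℂ V - finrank ℂ ↥(eigM ρ z 1) := by
  have h1 : ∀ ζ : ℂ, ζ ^ 3 = 1 → LinearMap.trace ℂ V (prj ρ z ζ) = finrank ℂ ↥(eigM ρ z ζ) := by
    intro ζ hζ
    have h2 := trace_proj' ρ (eigM ρ z ζ) (eigM_inv hzc ζ) (prj ρ z ζ) (prj_mem hz3 hζ) (fun w hw => prj_eq hζ hw) 1
    rwa [map_one, map_one, mul_one, LinearMap.trace_one] at h2
  have h3 : ω ^ 3 = 1 := hω.pow_eq_one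
  have h4 : (ω ^ 2) ^ 3 = 1 := by rw [← pow_mul, mul_comm, pow_mul, h3, one_pow]
  have h5 := congrArg (LinearMap.trace ℂ V) (prj_sum ρ z hω)
  rw [map_add, map_add, h1 1 (one_pow 3), h1 ω h3, h1 _ h4, LinearMap.trace_one] at h5
  have h6 : (finrank ℂ ↥(eigM ρ z 1) : ℝ) + finrank ℂ ↥(eigM ρ z ω) + finrank ℂ ↥(eigM ρ z (ω ^ 2)) = finrank ℂ V := by
    exact_mod_cast h5
  linarith

/-- **The ratio bound.** -/
theorem ratio (ρ : Representation ℂ G V) (hz3 : z ^ 3 = 1) (hzc : ∀ p : G, p * z = z * p) (hzQ : z ∈ Q)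
    (hQZ : ∀ q ∈ Q, ∀ q' ∈ Q, q * q' * q⁻¹ * q'⁻¹ ∈ Subgroup.zpowers z)
    (hnd : ∀ q ∈ Q, q ∉ Subgroup.zpowers z → ∃ q' ∈ Q, q' * q * q'⁻¹ * q⁻¹ ∈ Subgroup.zpowers z ∧ q' * q * q'⁻¹ * q⁻¹ ≠ 1)
    (hg : ∀ q, q ∈ Q ↔ g * q * g⁻¹ ∈ Q) {s : ℝ} (hs : 0 ≤ s)
    (hK : (Nat.card {x : ↥Q // (x : G) * g * (x : G)⁻¹ * g⁻¹ ∈ Subgroup.zpowers z} : ℝ) ≤ s ^ 2 * Nat.card Q) :
    ‖LinearMap.trace ℂ V (ρ g)‖ ≤ finrank ℂ ↥(fixM ρ (insert z (comSet Q g))) +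
      (finrank ℂ V - finrank ℂ ↥(eigM ρ z 1)) * s := by
  obtain ⟨ω, hω⟩ : ∃ ω : ℂ, IsPrimitiveRoot ω 3 := ⟨_, Complex.isPrimitiveRoot_exp 3 (by norm_num)⟩
  have hω2 : IsPrimitiveRoot (ω ^ 2) 3 := hω.pow_of_coprime 2 (by norm_num)
  have hQ0 : (0 : ℝ) < Nat.card Q := by exact_mod_cast Nat.card_pos
  have h1 : ∀ ζ : ℂ, IsPrimitiveRoot ζ 3 → ‖LinearMap.trace ℂ V (prj ρ z ζ * ρ g)‖ ≤ finrank ℂ ↥(eigM ρ z ζ) * s := by
    intro ζ hζ
    have h2 := faithful_le (ρ := ρ) hz3 hzc hzQ hnd hg hζ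
    have h3 : ‖LinearMap.trace ℂ V (prj ρ z ζ * ρ g)‖ ^ 2 * Nat.card Q ≤
        ((finrank ℂ ↥(eigM ρ z ζ) : ℝ) * s) ^ 2 * Nat.card Q := by
      refine h2.trans ?_
      calc (finrank ℂ ↥(eigM ρ z ζ) : ℝ) ^ 2 *
            Nat.card {x : ↥Q // (x : G) * g * (x : G)⁻¹ * g⁻¹ ∈ Subgroup.zpowers z}
          ≤ (finrank ℂ ↥(eigM ρ z ζ) : ℝ) ^ 2 * (s ^ 2 * Nat.card Q) := mul_le_mul_of_nonneg_left hK (sq_nonneg _)
        _ = _ := by ring
    exact le_of_sq_le_sq (le_of_mul_le_mul_right h3 hQ0) (mul_nonneg (Nat.cast_nonneg _) hs)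
  have h4 := fixed_le (ρ := ρ) hz3 hzc hQZ hg
  have h5 : ρ g = prj ρ z 1 * ρ g + prj ρ z ω * ρ g + prj ρ z (ω ^ 2) * ρ g := by
    rw [← add_mul, ← add_mul, prj_sum ρ z hω, one_mul]
  have h6 := finrank_eig ρ hz3 hzc hω
  calc ‖LinearMap.trace ℂ V (ρ g)‖ = ‖LinearMap.trace ℂ V (prj ρ z 1 * ρ g) + LinearMap.trace ℂ V (prj ρ z ω * ρ g) +
        LinearMap.trace ℂ V (prj ρ z (ω ^ 2) * ρ g)‖ := by rw [← map_add, ← map_add, ← h5]
    _ ≤ ‖LinearMap.trace ℂ V (prj ρ z 1 * ρ g)‖ + ‖LinearMap.trace ℂ V (prj ρ z ω * ρ g)‖ +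
        ‖LinearMap.trace ℂ V (prj ρ z (ω ^ 2) * ρ g)‖ := norm_add₃_le
    _ ≤ finrank ℂ ↥(fixM ρ (insert z (comSet Q g))) + finrank ℂ ↥(eigM ρ z ω) * s +
        finrank ℂ ↥(eigM ρ z (ω ^ 2)) * s := add_le_add (add_le_add h4 (h1 _ hω)) (h1 _ hω2)
    _ = _ := by rw [← h6]; ring

/-- **The ratio bound**, trace zero on the faithful part. -/
theorem ratio_zero (ρ : Representation ℂ G V) (hz3 : z ^ 3 = 1) (hzc : ∀ p : G, p * z = z * p)
    (hQZ : ∀ q ∈ Q, ∀ q' ∈ Q, q * q' * q⁻¹ * q'⁻¹ ∈ Subgroup.zpowers z) (hg : ∀ q, q ∈ Q ↔ g * q * g⁻¹ ∈ Q) {x : G}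
    (hx : x * g * x⁻¹ * g⁻¹ ∈ Subgroup.zpowers z) (hx1 : x * g * x⁻¹ * g⁻¹ ≠ 1) :
    ‖LinearMap.trace ℂ V (ρ g)‖ ≤ finrank ℂ ↥(fixM ρ (insert z (comSet Q g))) := by
  obtain ⟨ω, hω⟩ : ∃ ω : ℂ, IsPrimitiveRoot ω 3 := ⟨_, Complex.isPrimitiveRoot_exp 3 (by norm_num)⟩
  have hω2 : IsPrimitiveRoot (ω ^ 2) 3 := hω.pow_of_coprime 2 (by norm_num)
  have h5 : ρ g = prj ρ z 1 * ρ g + prj ρ z ω * ρ g + prj ρ z (ω ^ 2) * ρ g := by
    rw [← add_mul, ← add_mul, prj_sum ρ z hω, one_mul]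
  have h6 : LinearMap.trace ℂ V (ρ g) = LinearMap.trace ℂ V (prj ρ z 1 * ρ g) + LinearMap.trace ℂ V (prj ρ z ω * ρ g) +
        LinearMap.trace ℂ V (prj ρ z (ω ^ 2) * ρ g) := by rw [← map_add, ← map_add, ← h5]
  rw [h6, faithful_zero hz3 hzc hx hx1 hω, faithful_zero hz3 hzc hx hx1 hω2, add_zero, add_zero]
  exact fixed_le hz3 hzc hQZ hg

end cut

end Cfsg.Agent.H980.RB
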