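import Cfsg.Agent.H980.RB.Cut

/-!
# Cutting a representation along a central root group (S2452, `F₄(q)`; helper980)

`G` finite, `X : Multiplicative F →* G` with central image (`F` a finite additive group), `Q` a subgroup containing the image,
`Q` modulo the image abelian, `g` normalises `Q`:

* `ratioQ` : nondegenerate commutator form, `|{x ∈ Q : [x, g] ∈ X}| ≤ s² |Q|`:
  `‖tr g‖ ≤ dim V^(X, [Q, g]) + (dim V - dim V^X) * s`;
* `ratioQ_zero` : every `X t` is a commutator `[x, g]`: `‖tr g‖ ≤ dim V^(X, [Q, g])`;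
* `finrank_fixQ_le` : `‖tr q‖ ≤ B` on `Q ∖ X`, `|{x ∈ Q : [x, g] ∈ X}| ≤ t |Q|`: `dim V^(X, [Q, g]) ≤ t dim V^X + B`;
* `tr_fixQ`, `tr_conjQ` : the two combined.
-/

set_option autoImplicit false

namespace Cfsg.Agent.H980.RB

open Module

variable {G : Type*} [Group G] {V : Type*} [AddCommGroup V] [Module ℂ V] {F : Type*} [AddCommGroup F]

/-- the isotypic part of the character `ψ` of the root group -/
def isoM (ρ : Representation ℂ G V) (X : Multiplicative F →* G) (ψ : AddChar F ℂ) : Submodule ℂ V where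
  carrier := {v | ∀ t : F, ρ (X (Multiplicative.ofAdd t)) v = ψ t • v}
  add_mem' := fun {v w} hv hw t => by rw [map_add, smul_add, hv t, hw t]
  zero_mem' := fun t => by rw [map_zero, smul_zero]
  smul_mem' := fun c v hv t => by rw [map_smul, hv t, smul_comm]

theorem mem_isoM {ρ : Representation ℂ G V} {X : Multiplicative F →* G} {ψ : AddChar F ℂ} {v : V} :
    v ∈ isoM ρ X ψ ↔ ∀ t : F, ρ (X (Multiplicative.ofAdd t)) v = ψ t • v := Iff.rfl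

/-- the projection onto the isotypic part -/
noncomputable def prjQ [Fintype F] (ρ : Representation ℂ G V) (X : Multiplicative F →* G) (ψ : AddChar F ℂ) : V →ₗ[ℂ] V :=
  (Fintype.card F : ℂ)⁻¹ • ∑ t : F, ψ (-t) • ρ (X (Multiplicative.ofAdd t))

theorem prjQ_apply [Fintype F] (ρ : Representation ℂ G V) (X : Multiplicative F →* G) (ψ : AddChar F ℂ) (v : V) :
    prjQ ρ X ψ v = (Fintype.card F : ℂ)⁻¹ • ∑ t : F, ψ (-t) • ρ (X (Multiplicative.ofAdd t)) v := by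
  rw [prjQ, LinearMap.smul_apply, LinearMap.sum_apply]
  rfl

theorem card_ne [Fintype F] : (Fintype.card F : ℂ) ≠ 0 := by
  exact_mod_cast Fintype.card_ne_zero

theorem prjQ_mem [Fintype F] {ρ : Representation ℂ G V} {X : Multiplicative F →* G} (ψ : AddChar F ℂ) (v : V) :
    prjQ ρ X ψ v ∈ isoM ρ X ψ := by
  intro s
  rw [prjQ_apply, map_smul, map_sum, smul_comm]
  congr 1
  rw [Finset.smul_sum, ← Equiv.sum_comp (Equiv.addLeft s) fun t => ψ s • ψ (-t) • ρ (X (Multiplicative.ofAdd t)) v]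
  refine Finset.sum_congr rfl fun t _ => ?_
  have h1 : ψ s * ψ (-(s + t)) = ψ (-t) := by
    rw [← AddChar.map_add_eq_mul, neg_add, add_neg_cancel_left]
  rw [Equiv.coe_addLeft, map_smul, ← Module.End.mul_apply, ← map_mul, ← map_mul, ← ofAdd_add, smul_smul, h1]

theorem prjQ_eq [Fintype F] {ρ : Representation ℂ G V} {X : Multiplicative F →* G} {ψ : AddChar F ℂ} {v : V}
    (hv : v ∈ isoM ρ X ψ) : prjQ ρ X ψ v = v := by
  rw [mem_isoM] at hv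
  rw [prjQ_apply]
  have h1 : ∀ t : F, ψ (-t) • ρ (X (Multiplicative.ofAdd t)) v = v := by
    intro t
    rw [hv t, smul_smul, ← AddChar.map_add_eq_mul, neg_add_cancel, AddChar.map_zero_eq_one, one_smul]
  rw [Finset.sum_congr rfl fun t _ => h1 t, Finset.sum_const, Finset.card_univ, ← Nat.cast_smul_eq_nsmul ℂ, smul_smul,
    inv_mul_cancel₀ card_ne, one_smul]

open Classical in
/-- the projections add up to `1` -/
theorem prjQ_sum [Fintype F] (ρ : Representation ℂ G V) (X : Multiplicative F →* G) :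
    ∑ ψ : AddChar F ℂ, prjQ ρ X ψ = 1 := by
  ext v
  rw [LinearMap.sum_apply, Finset.sum_congr rfl fun ψ _ => prjQ_apply ρ X ψ v, ← Finset.smul_sum, Finset.sum_comm]
  have h1 : ∀ t : F, ∑ ψ : AddChar F ℂ, ψ (-t) • ρ (X (Multiplicative.ofAdd t)) v =
      if t = 0 then (Fintype.card F : ℂ) • v else 0 := by
    intro t
    rw [← Finset.sum_smul, AddChar.sum_apply_eq_ite]
    by_cases ht : t = 0
    · rw [if_pos ht, if_pos (by rw [ht, neg_zero]), ht, ofAdd_zero, map_one, map_one, Module.End.one_apply]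
    · rw [if_neg ht, if_neg (fun h => ht (neg_eq_zero.1 h)), zero_smul]
  rw [Finset.sum_congr rfl fun t _ => h1 t, Finset.sum_ite_eq' Finset.univ (0 : F), if_pos (Finset.mem_univ _), smul_smul,
    inv_mul_cancel₀ card_ne, one_smul, Module.End.one_apply]

/-- invariance of the isotypic parts -/
theorem isoM_inv {ρ : Representation ℂ G V} {X : Multiplicative F →* G} (hX : ∀ (t : Multiplicative F) (g : G), g * X t = X t * g)
    (ψ : AddChar F ℂ) : ∀ p : G, ∀ w ∈ isoM ρ X ψ, ρ p w ∈ isoM ρ X ψ := by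
  intro p w hw t
  rw [← Module.End.mul_apply, ← map_mul, ← hX, map_mul, Module.End.mul_apply, hw t, map_smul]

theorem res_X {ρ : Representation ℂ G V} {X : Multiplicative F →* G} (hX : ∀ (t : Multiplicative F) (g : G), g * X t = X t * g)
    (ψ : AddChar F ℂ) (t : F) : resRep ρ (isoM ρ X ψ) (isoM_inv hX ψ) (X (Multiplicative.ofAdd t)) = ψ t • 1 := by
  ext w
  rw [resRep_apply]
  exact w.2 t

section cut

variable [Finite G] [FiniteDimensional ℂ V] [Fintype F] {ρ : Representation ℂ G V} {X : Multiplicative F →* G}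
  {Q : Subgroup G} {g : G}

/-- the faithful part -/
theorem faithfulQ_le (hX : ∀ (t : Multiplicative F) (g : G), g * X t = X t * g) (hXQ : ∀ t, X t ∈ Q)
    (hnd : ∀ q ∈ Q, q ∉ X.range → ∀ t : F, ∃ q' ∈ Q, q' * q * q'⁻¹ * q⁻¹ = X (Multiplicative.ofAdd t))
    (hg : ∀ q, q ∈ Q ↔ g * q * g⁻¹ ∈ Q) {ψ : AddChar F ℂ} (hψ : ψ ≠ 1) :
    ‖LinearMap.trace ℂ V (prjQ ρ X ψ * ρ g)‖ ^ 2 * Nat.card Q ≤ (finrank ℂ ↥(isoM ρ X ψ) : ℝ) ^ 2 *
      Nat.card {x : ↥Q // (x : G) * g * (x : G)⁻¹ * g⁻¹ ∈ X.range} := by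
  rw [trace_proj' ρ (isoM ρ X ψ) (isoM_inv hX ψ) (prjQ ρ X ψ) (prjQ_mem ψ) (fun w hw => prjQ_eq hw)]
  refine weil (resRep ρ (isoM ρ X ψ) (isoM_inv hX ψ)) Q X.range ?_ ?_ ?_ g (fun q hq => (hg q).1 hq) ?_
  · rintro _ ⟨t, rfl⟩
    exact ⟨_, res_X hX ψ (Multiplicative.toAdd t)⟩
  · intro q hq hqz
    obtain ⟨t, ht⟩ := AddChar.ne_one_iff.1 hψ
    obtain ⟨q', -, h1⟩ := hnd q hq hqz t
    exact ⟨q', ψ t, ht, by rw [h1]; exact res_X hX ψ t⟩
  · rintro _ ⟨t, rfl⟩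
    exact hXQ t
  · rintro _ ⟨t, rfl⟩ q _
    exact (hX t q).symm

omit [Finite G] in
/-- the faithful part vanishes -/
theorem faithfulQ_zero (hX : ∀ (t : Multiplicative F) (g : G), g * X t = X t * g)
    (hx : ∀ t : F, ∃ x : G, x * g * x⁻¹ * g⁻¹ = X (Multiplicative.ofAdd t)) {ψ : AddChar F ℂ} (hψ : ψ ≠ 1) :
    LinearMap.trace ℂ V (prjQ ρ X ψ * ρ g) = 0 := by
  rw [trace_proj' ρ (isoM ρ X ψ) (isoM_inv hX ψ) (prjQ ρ X ψ) (prjQ_mem ψ) (fun w hw => prjQ_eq hw)]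
  obtain ⟨t, ht⟩ := AddChar.ne_one_iff.1 hψ
  obtain ⟨x, h1⟩ := hx t
  exact weil_zero (resRep ρ (isoM ρ X ψ) (isoM_inv hX ψ)) (g := g) (x := x) (c := ψ t) ht (by rw [h1]; exact res_X hX ψ t)

omit [Finite G] [FiniteDimensional ℂ V] [Fintype F] in
/-- the abelian action on the fixed space of `X` -/
theorem resQ_comm (hX : ∀ (t : Multiplicative F) (g : G), g * X t = X t * g)
    (hQX : ∀ q ∈ Q, ∀ q' ∈ Q, q * q' * q⁻¹ * q'⁻¹ ∈ X.range) :
    ∀ q ∈ Q, ∀ q' ∈ Q, resRep ρ (isoM ρ X 1) (isoM_inv hX 1) q * resRep ρ (isoM ρ X 1) (isoM_inv hX 1) q' =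
      resRep ρ (isoM ρ X 1) (isoM_inv hX 1) q' * resRep ρ (isoM ρ X 1) (isoM_inv hX 1) q := by
  intro q hq q' hq'
  obtain ⟨t, ht⟩ := hQX q hq q' hq'
  have h1 : q * q' = (q * q' * q⁻¹ * q'⁻¹) * (q' * q) := by group
  have h2 : resRep ρ (isoM ρ X 1) (isoM_inv hX 1) (X t) = 1 := by
    have := res_X (ρ := ρ) hX 1 (Multiplicative.toAdd t)
    rw [AddChar.one_apply, one_smul] at this
    exact this
  rw [← map_mul, h1, ← ht, map_mul, h2, one_mul, map_mul]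

/-- the part with trivial `X` -/
theorem fixedQ_le (hX : ∀ (t : Multiplicative F) (g : G), g * X t = X t * g)
    (hQX : ∀ q ∈ Q, ∀ q' ∈ Q, q * q' * q⁻¹ * q'⁻¹ ∈ X.range) (hg : ∀ q, q ∈ Q ↔ g * q * g⁻¹ ∈ Q) :
    ‖LinearMap.trace ℂ V (prjQ ρ X 1 * ρ g)‖ ≤ finrank ℂ ↥(fixM ρ ((X.range : Set G) ∪ comSet Q g)) := by
  rw [trace_proj' ρ (isoM ρ X 1) (isoM_inv hX 1) (prjQ ρ X 1) (prjQ_mem 1) (fun w hw => prjQ_eq hw)]
  refine (norm_trace_le_fix (resRep ρ (isoM ρ X 1) (isoM_inv hX 1)) Q (resQ_comm hX hQX) g hg).trans ?_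
  have h1 : (fixM (resRep ρ (isoM ρ X 1) (isoM_inv hX 1)) (comSet Q g)).map (isoM ρ X 1).subtype ≤
      fixM ρ ((X.range : Set G) ∪ comSet Q g) := by
    rintro v ⟨w, hw, rfl⟩ s hs
    rcases hs with ⟨t, rfl⟩ | hs
    · have h2 := w.2 (Multiplicative.toAdd t)
      rw [AddChar.one_apply, one_smul] at h2
      exact h2
    · have h2 := hw s hs
      exact congrArg (fun u : ↥(isoM ρ X 1) => (u : V)) h2
  have h2 := Submodule.finrank_mono h1
  rw [← (Submodule.equivMapOfInjective (isoM ρ X 1).subtype Subtype.val_injective _).finrank_eq] at h2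
  exact_mod_cast h2

omit [Finite G] in
open Classical in
/-- the dimensions -/
theorem finrank_iso (ρ : Representation ℂ G V) (hX : ∀ (t : Multiplicative F) (g : G), g * X t = X t * g) :
    ∑ ψ ∈ Finset.univ.erase (1 : AddChar F ℂ), (finrank ℂ ↥(isoM ρ X ψ) : ℝ) = finrank ℂ V - finrank ℂ ↥(isoM ρ X 1) := by
  have h1 : ∀ ψ : AddChar F ℂ, LinearMap.trace ℂ V (prjQ ρ X ψ) = finrank ℂ ↥(isoM ρ X ψ) := by
    intro ψ
    have h2 := trace_proj' ρ (isoM ρ X ψ) (isoM_inv hX ψ) (prjQ ρ X ψ) (prjQ_mem ψ) (fun w hw => prjQ_eq hw) 1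
    rwa [map_one, map_one, mul_one, LinearMap.trace_one] at h2
  have h5 := congrArg (LinearMap.trace ℂ V) (prjQ_sum ρ X)
  rw [map_sum, Finset.sum_congr rfl fun ψ _ => h1 ψ, LinearMap.trace_one,
    ← Finset.add_sum_erase _ _ (Finset.mem_univ (1 : AddChar F ℂ))] at h5
  have h6 : (finrank ℂ ↥(isoM ρ X 1) : ℝ) + ∑ ψ ∈ Finset.univ.erase (1 : AddChar F ℂ), (finrank ℂ ↥(isoM ρ X ψ) : ℝ) =
      finrank ℂ V := by exact_mod_cast h5
  linarith

/-- **The ratio bound.** -/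
theorem ratioQ (ρ : Representation ℂ G V) (hX : ∀ (t : Multiplicative F) (g : G), g * X t = X t * g) (hXQ : ∀ t, X t ∈ Q)
    (hQX : ∀ q ∈ Q, ∀ q' ∈ Q, q * q' * q⁻¹ * q'⁻¹ ∈ X.range)
    (hnd : ∀ q ∈ Q, q ∉ X.range → ∀ t : F, ∃ q' ∈ Q, q' * q * q'⁻¹ * q⁻¹ = X (Multiplicative.ofAdd t))
    (hg : ∀ q, q ∈ Q ↔ g * q * g⁻¹ ∈ Q) {s : ℝ} (hs : 0 ≤ s)
    (hK : (Nat.card {x : ↥Q // (x : G) * g * (x : G)⁻¹ * g⁻¹ ∈ X.range} : ℝ) ≤ s ^ 2 * Nat.card Q) :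
    ‖LinearMap.trace ℂ V (ρ g)‖ ≤ finrank ℂ ↥(fixM ρ ((X.range : Set G) ∪ comSet Q g)) +
      (finrank ℂ V - finrank ℂ ↥(isoM ρ X 1)) * s := by
  classical
  have hQ0 : (0 : ℝ) < Nat.card Q := by exact_mod_cast Nat.card_pos
  have h1 : ∀ ψ : AddChar F ℂ, ψ ≠ 1 → ‖LinearMap.trace ℂ V (prjQ ρ X ψ * ρ g)‖ ≤ finrank ℂ ↥(isoM ρ X ψ) * s := by
    intro ψ hψ
    have h2 := faithfulQ_le (ρ := ρ) hX hXQ hnd hg hψ
    have h3 : ‖LinearMap.trace ℂ V (prjQ ρ X ψ * ρ g)‖ ^ 2 * Nat.card Q ≤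
        ((finrank ℂ ↥(isoM ρ X ψ) : ℝ) * s) ^ 2 * Nat.card Q := by
      refine h2.trans ?_
      calc (finrank ℂ ↥(isoM ρ X ψ) : ℝ) ^ 2 * Nat.card {x : ↥Q // (x : G) * g * (x : G)⁻¹ * g⁻¹ ∈ X.range}
          ≤ (finrank ℂ ↥(isoM ρ X ψ) : ℝ) ^ 2 * (s ^ 2 * Nat.card Q) := mul_le_mul_of_nonneg_left hK (sq_nonneg _)
        _ = _ := by ring
    exact le_of_sq_le_sq (le_of_mul_le_mul_right h3 hQ0) (mul_nonneg (Nat.cast_nonneg _) hs)
  have h4 := fixedQ_le (ρ := ρ) hX hQX hg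
  have h5 : LinearMap.trace ℂ V (ρ g) = LinearMap.trace ℂ V (prjQ ρ X 1 * ρ g) +
      ∑ ψ ∈ Finset.univ.erase (1 : AddChar F ℂ), LinearMap.trace ℂ V (prjQ ρ X ψ * ρ g) := by
    rw [Finset.add_sum_erase Finset.univ (fun ψ : AddChar F ℂ => LinearMap.trace ℂ V (prjQ ρ X ψ * ρ g))
      (Finset.mem_univ (1 : AddChar F ℂ)), ← map_sum, ← Finset.sum_mul, prjQ_sum ρ X, one_mul]
  have h6 := finrank_iso ρ hX
  rw [h5, ← h6, Finset.sum_mul]
  refine (norm_add_le _ _).trans (add_le_add h4 ((norm_sum_le _ _).trans (Finset.sum_le_sum fun ψ hψ => ?_)))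
  exact h1 ψ (Finset.ne_of_mem_erase hψ)

/-- **The ratio bound**, trace zero on the faithful part. -/
theorem ratioQ_zero (ρ : Representation ℂ G V) (hX : ∀ (t : Multiplicative F) (g : G), g * X t = X t * g)
    (hQX : ∀ q ∈ Q, ∀ q' ∈ Q, q * q' * q⁻¹ * q'⁻¹ ∈ X.range) (hg : ∀ q, q ∈ Q ↔ g * q * g⁻¹ ∈ Q)
    (hx : ∀ t : F, ∃ x : G, x * g * x⁻¹ * g⁻¹ = X (Multiplicative.ofAdd t)) :
    ‖LinearMap.trace ℂ V (ρ g)‖ ≤ finrank ℂ ↥(fixM ρ ((X.range : Set G) ∪ comSet Q g)) := by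
  classical
  have h5 : LinearMap.trace ℂ V (ρ g) = LinearMap.trace ℂ V (prjQ ρ X 1 * ρ g) +
      ∑ ψ ∈ Finset.univ.erase (1 : AddChar F ℂ), LinearMap.trace ℂ V (prjQ ρ X ψ * ρ g) := by
    rw [Finset.add_sum_erase Finset.univ (fun ψ : AddChar F ℂ => LinearMap.trace ℂ V (prjQ ρ X ψ * ρ g))
      (Finset.mem_univ (1 : AddChar F ℂ)), ← map_sum, ← Finset.sum_mul, prjQ_sum ρ X, one_mul]
  rw [h5, Finset.sum_eq_zero fun ψ hψ => faithfulQ_zero hX hx (Finset.ne_of_mem_erase hψ), add_zero]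
  exact fixedQ_le hX hQX hg

end cut

end Cfsg.Agent.H980.RB
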