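import Mathlib

/-!
# Fourier bounds for the number of fixed characters (S2464, `F₄(3)`; helper980)

`L` a finite group acting on the finite groups `M`, `A`, `b : M →+ A →+ ZMod 3` an invariant pairing, nondegenerate on the left;
`c3 0 = 2`, `c3 (±1) = -1` (`= 2 Re ω^x`); `SS μ q = ∑_{g ∈ L} c3 (b (g μ) q)`.

* `parseval` : `|L q| * SS μ q ^ 2 * |L μ| ≤ 4 |A| |L| ^ 2`;
* `SS_le` : with `(T1)` for the orbits of `w₀ ∈ A` and `m₀ ∈ M` and all other nonzero orbits of length `≥ K`: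
  `v * SS μ q ≤ 2 * u * |L|` for `μ ≠ 0`, `q ≠ 0`;
* `sum_fix_le` : for `R ≤ A`, `D ≥ 0` invariant: `|R| * ∑_{μ ≠ 0, μ ⟂ R} D μ ≤ (1 + (|R| - 1) u / v) ∑_{μ ≠ 0} D μ`.
-/

set_option autoImplicit false

namespace Cfsg.Agent.H980.RB.Four

/-- `2 Re ω^x` -/
def c3 (x : ZMod 3) : ℤ := if x = 0 then 2 else -1

theorem c3_mul (x y : ZMod 3) : c3 x * c3 y = c3 (x + y) + c3 (x - y) := by
  revert x y
  decide

theorem c3_zero : c3 0 = 2 := rfl

theorem c3_neg (x : ZMod 3) : c3 (-x) = c3 x := by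
  revert x
  decide

theorem c3_le (x : ZMod 3) : c3 x ≤ 2 := by
  revert x
  decide

open Finset

section

variable {A : Type*} [AddCommGroup A] [Fintype A]

/-- the sum over a finite group of a nontrivial character -/
theorem sum_c3 (φ : A →+ ZMod 3) (h : ∃ a, φ a ≠ 0) : ∑ a : A, c3 (φ a) = 0 := by
  obtain ⟨a₀, h0⟩ := h
  have h1 : ∑ a : A, c3 (φ (a + a₀)) = ∑ a : A, c3 (φ a) := Fintype.sum_equiv (Equiv.addRight a₀) _ _ fun _ => rfl
  have h2 : ∑ a : A, c3 (φ (a + (a₀ + a₀))) = ∑ a : A, c3 (φ a) :=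
    Fintype.sum_equiv (Equiv.addRight (a₀ + a₀)) _ _ fun _ => rfl
  have h3 : ∑ a : A, c3 (φ a) + ∑ a : A, c3 (φ (a + a₀)) + ∑ a : A, c3 (φ (a + (a₀ + a₀))) = 0 := by
    rw [← Finset.sum_add_distrib, ← Finset.sum_add_distrib]
    refine Finset.sum_eq_zero fun a _ => ?_
    rw [map_add, map_add, map_add]
    generalize φ a = x at *
    generalize φ a₀ = y at *
    revert x y
    decide
  rw [h1, h2] at h3
  omega

theorem sum_c3_zero (φ : A →+ ZMod 3) (h : ∀ a, φ a = 0) : ∑ a : A, c3 (φ a) = 2 * Fintype.card A := by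
  rw [Finset.sum_congr rfl fun a _ => by rw [h a, c3_zero], Finset.sum_const, Finset.card_univ, nsmul_eq_mul, mul_comm]

theorem sum_c3_nonneg (φ : A →+ ZMod 3) : 0 ≤ ∑ a : A, c3 (φ a) := by
  by_cases h : ∀ a, φ a = 0
  · rw [sum_c3_zero φ h]
    positivity
  · push Not at h
    rw [sum_c3 φ h]

end

section

variable {L M A : Type*} [Group L] [Fintype L] [AddCommGroup M] [AddCommGroup A] [Fintype A]
  [MulAction L M] [MulAction L A] (b : M →+ A →+ ZMod 3)

/-- the averaged character -/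
def SS (μ : M) (q : A) : ℤ := ∑ g : L, c3 (b (g • μ) q)

end

variable {L M A : Type*} [Group L] [Fintype L] [AddCommGroup M] [AddCommGroup A] [Fintype A] [Fintype M]
  [MulAction L M] [MulAction L A] {b : M →+ A →+ ZMod 3}

omit [Fintype M] [Fintype A] in
theorem SS_eq (inv : ∀ (g : L) (μ : M) (q : A), b (g • μ) (g • q) = b μ q) (μ : M) (q : A) :
    SS (L := L) b μ q = ∑ g : L, c3 (b μ (g • q)) := by
  rw [SS]
  refine Fintype.sum_equiv (Equiv.inv L) _ _ fun g => ?_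
  rw [Equiv.inv_apply, ← inv g μ (g⁻¹ • q), smul_inv_smul]

omit [Fintype M] [Fintype A] [MulAction L A] in
theorem SS_smul_left (h : L) (μ : M) (q : A) : SS (L := L) b (h • μ) q = SS (L := L) b μ q := by
  rw [SS, SS]
  refine Fintype.sum_equiv (Equiv.mulRight h) _ _ fun g => ?_
  rw [Equiv.coe_mulRight, mul_smul]

omit [Fintype M] [Fintype A] in
theorem SS_smul_right (inv : ∀ (g : L) (μ : M) (q : A), b (g • μ) (g • q) = b μ q) (h : L) (μ : M) (q : A) :
    SS (L := L) b μ (h • q) = SS (L := L) b μ q := by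
  rw [SS_eq inv, SS_eq inv]
  refine Fintype.sum_equiv (Equiv.mulRight h) _ _ fun g => ?_
  rw [Equiv.coe_mulRight, mul_smul]

open Classical in
omit [Fintype M] in
/-- orthogonality -/
theorem sum_mul (nd : ∀ μ : M, (∀ q, b μ q = 0) → μ = 0) (μ ν : M) :
    ∑ q : A, c3 (b μ q) * c3 (b ν q) ≤
      2 * Fintype.card A * ((if μ = ν then 1 else 0) + (if μ = -ν then 1 else 0)) := by
  have h1 : ∑ q : A, c3 (b μ q) * c3 (b ν q) = ∑ q : A, c3 (b (μ + ν) q) + ∑ q : A, c3 (b (μ - ν) q) := by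
    rw [← Finset.sum_add_distrib]
    refine Finset.sum_congr rfl fun q _ => ?_
    rw [c3_mul, map_add, map_sub]
    rfl
  have h2 : ∀ κ : M, ∑ q : A, c3 (b κ q) = if κ = 0 then 2 * (Fintype.card A : ℤ) else 0 := by
    intro κ
    split_ifs with hκ
    · rw [hκ]
      exact sum_c3_zero _ fun a => by rw [map_zero]; rfl
    · refine sum_c3 _ ?_
      by_contra hne
      push Not at hne
      exact hκ (nd κ hne)
  rw [h1, h2, h2]
  have h3 : (μ + ν = 0) = (μ = -ν) := propext add_eq_zero_iff_eq_neg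
  have h4 : (μ - ν = 0) = (μ = ν) := propext sub_eq_zero
  simp only [h3, h4]
  split_ifs
  all_goals simp
  omega

open Classical in
omit [Fintype A] [AddCommGroup M] [Fintype M] [AddCommGroup A] [MulAction L A] in
/-- the number of `g` with `g μ = ν` is at most the order of the stabilizer -/
theorem card_eq_le (μ ν : M) : ((Finset.univ.filter fun g : L => g • μ = ν).card) ≤ Nat.card (MulAction.stabilizer L μ) := by
  by_cases h : ∃ g₀ : L, g₀ • μ = ν
  · obtain ⟨g₀, hg₀⟩ := h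
    rw [Nat.card_eq_fintype_card, ← Fintype.card_subtype]
    refine Fintype.card_le_of_injective (fun g => (⟨g₀⁻¹ * g.1, ?_⟩ : MulAction.stabilizer L μ)) ?_
    · rw [MulAction.mem_stabilizer_iff, mul_smul, g.2, ← hg₀, inv_smul_smul]
    · intro g g' hgg
      have := congrArg Subtype.val hgg
      exact Subtype.ext (mul_left_cancel this)
  · have : (Finset.univ.filter fun g : L => g • μ = ν) = ∅ := by
      rw [Finset.filter_eq_empty_iff]
      intro g _ hg
      exact h ⟨g, hg⟩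
    rw [this, Finset.card_empty]
    exact Nat.zero_le _

omit [Fintype M] [MulAction L A] in
/-- the square sum -/
theorem sum_SS_sq (nd : ∀ μ : M, (∀ q, b μ q = 0) → μ = 0) (μ : M) :
    ∑ q : A, SS (L := L) b μ q ^ 2 ≤ 4 * (Fintype.card A : ℤ) * Fintype.card L * Nat.card (MulAction.stabilizer L μ) := by
  classical
  have h1 : ∑ q : A, SS (L := L) b μ q ^ 2 = ∑ g : L, ∑ h : L, ∑ q : A, c3 (b (g • μ) q) * c3 (b (h • μ) q) := by
    have h2 : ∀ q : A, SS (L := L) b μ q ^ 2 = ∑ g : L, ∑ h : L, c3 (b (g • μ) q) * c3 (b (h • μ) q) := by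
      intro q
      rw [pow_two, SS, Finset.sum_mul_sum]
    rw [Finset.sum_congr rfl fun q _ => h2 q, Finset.sum_comm]
    refine Finset.sum_congr rfl fun g _ => ?_
    rw [Finset.sum_comm]
  rw [h1]
  have h3 : ∀ g : L, ∑ h : L, ∑ q : A, c3 (b (g • μ) q) * c3 (b (h • μ) q) ≤
      4 * (Fintype.card A : ℤ) * Nat.card (MulAction.stabilizer L μ) := by
    intro g
    calc ∑ h : L, ∑ q : A, c3 (b (g • μ) q) * c3 (b (h • μ) q)
        ≤ ∑ h : L, 2 * (Fintype.card A : ℤ) * ((if g • μ = h • μ then 1 else 0) + (if g • μ = -(h • μ) then 1 else 0)) :=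
          Finset.sum_le_sum fun h _ => sum_mul nd _ _
      _ = 2 * (Fintype.card A : ℤ) * (((Finset.univ.filter fun h : L => h • μ = g • μ).card : ℤ) +
          ((Finset.univ.filter fun h : L => h • μ = -(g • μ)).card : ℤ)) := by
        rw [← Finset.mul_sum, Finset.sum_add_distrib, Finset.card_filter, Finset.card_filter]
        push_cast
        congr 2
        · refine Finset.sum_congr rfl fun h _ => ?_
          simp only [eq_comm]
        · refine Finset.sum_congr rfl fun h _ => ?_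
          have : (g • μ = -(h • μ)) = (h • μ = -(g • μ)) := by
            apply propext
            constructor
            · intro h5; rw [h5, neg_neg]
            · intro h5; rw [h5, neg_neg]
          simp only [this]
      _ ≤ 2 * (Fintype.card A : ℤ) * ((Nat.card (MulAction.stabilizer L μ) : ℤ) + Nat.card (MulAction.stabilizer L μ)) := by
        refine mul_le_mul_of_nonneg_left ?_ (by positivity)
        exact add_le_add (by exact_mod_cast card_eq_le (L := L) μ (g • μ)) (by exact_mod_cast card_eq_le (L := L) μ (-(g • μ)))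
      _ = _ := by ring
  calc ∑ g : L, ∑ h : L, ∑ q : A, c3 (b (g • μ) q) * c3 (b (h • μ) q)
      ≤ ∑ _g : L, 4 * (Fintype.card A : ℤ) * Nat.card (MulAction.stabilizer L μ) := Finset.sum_le_sum fun g _ => h3 g
    _ = _ := by
      rw [Finset.sum_const, Finset.card_univ, nsmul_eq_mul]
      ring

/-- **Parseval.** -/
theorem parseval (inv : ∀ (g : L) (μ : M) (q : A), b (g • μ) (g • q) = b μ q)
    (nd : ∀ μ : M, (∀ q, b μ q = 0) → μ = 0) (μ : M) (q : A) :
    (Nat.card (MulAction.orbit L q) : ℤ) * SS (L := L) b μ q ^ 2 * Nat.card (MulAction.orbit L μ) ≤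
      4 * (Fintype.card A : ℤ) * (Fintype.card L : ℤ) ^ 2 := by
  classical
  have h1 : (Nat.card (MulAction.orbit L q) : ℤ) * SS (L := L) b μ q ^ 2 ≤ ∑ q' : A, SS (L := L) b μ q' ^ 2 := by
    have h2 : (Nat.card (MulAction.orbit L q) : ℤ) * SS (L := L) b μ q ^ 2 =
        ∑ q' ∈ (MulAction.orbit L q).toFinset, SS (L := L) b μ q' ^ 2 := by
      rw [Finset.sum_congr rfl (g := fun _ => SS (L := L) b μ q ^ 2), Finset.sum_const, nsmul_eq_mul,
        Nat.card_eq_card_toFinset]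
      intro q' hq'
      rw [Set.mem_toFinset] at hq'
      obtain ⟨g, rfl⟩ := hq'
      show SS (L := L) b μ (g • q) ^ 2 = _
      rw [SS_smul_right inv]
    rw [h2]
    exact Finset.sum_le_sum_of_subset_of_nonneg (Finset.subset_univ _) fun _ _ _ => sq_nonneg _
  have h3 : Nat.card (MulAction.orbit L μ) * Nat.card (MulAction.stabilizer L μ) = Fintype.card L := by
    have := MulAction.card_orbit_mul_card_stabilizer_eq_card_group L μ
    rw [Nat.card_eq_fintype_card, Nat.card_eq_fintype_card]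
    exact this
  calc (Nat.card (MulAction.orbit L q) : ℤ) * SS (L := L) b μ q ^ 2 * Nat.card (MulAction.orbit L μ)
      ≤ (4 * (Fintype.card A : ℤ) * Fintype.card L * Nat.card (MulAction.stabilizer L μ)) * Nat.card (MulAction.orbit L μ) :=
        mul_le_mul_of_nonneg_right (h1.trans (sum_SS_sq nd μ)) (by positivity)
    _ = 4 * (Fintype.card A : ℤ) * Fintype.card L * ((Nat.card (MulAction.orbit L μ) * Nat.card (MulAction.stabilizer L μ) : ℕ) : ℤ) := by
      push_cast; ring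
    _ = _ := by rw [h3]; ring

/-- **The bound of the averaged characters.** -/
theorem SS_le (inv : ∀ (g : L) (μ : M) (q : A), b (g • μ) (g • q) = b μ q)
    (nd : ∀ μ : M, (∀ q, b μ q = 0) → μ = 0) {u v K : ℕ} {m₀ : M} {w₀ : A}
    (hA : ∀ μ : M, μ ≠ 0 → v * SS (L := L) b μ w₀ ≤ 2 * u * Fintype.card L)
    (hM : ∀ q : A, q ≠ 0 → v * SS (L := L) b m₀ q ≤ 2 * u * Fintype.card L)
    (oA : ∀ q : A, q ≠ 0 → q ∉ MulAction.orbit L w₀ → K ≤ Nat.card (MulAction.orbit L q))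
    (oM : ∀ μ : M, μ ≠ 0 → μ ∉ MulAction.orbit L m₀ → K ≤ Nat.card (MulAction.orbit L μ))
    (hK : 0 < K) (hv : v ^ 2 * Fintype.card A ≤ u ^ 2 * K ^ 2) {μ : M} {q : A} (hμ : μ ≠ 0) (hq : q ≠ 0) :
    v * SS (L := L) b μ q ≤ 2 * u * Fintype.card L := by
  by_cases h1 : q ∈ MulAction.orbit L w₀
  · obtain ⟨g, rfl⟩ := h1
    show v * SS (L := L) b μ (g • w₀) ≤ _
    rw [SS_smul_right inv]
    exact hA μ hμ
  by_cases h2 : μ ∈ MulAction.orbit L m₀
  · obtain ⟨g, rfl⟩ := h2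
    show v * SS (L := L) b (g • m₀) q ≤ _
    rw [SS_smul_left]
    exact hM q hq
  have h3 := parseval (L := L) inv nd μ q
  have h4 : (K : ℤ) ≤ Nat.card (MulAction.orbit L q) := by exact_mod_cast oA q hq h1
  have h5 : (K : ℤ) ≤ Nat.card (MulAction.orbit L μ) := by exact_mod_cast oM μ hμ h2
  have hK' : (0 : ℤ) < K := by exact_mod_cast hK
  have hv' : (v : ℤ) ^ 2 * Fintype.card A ≤ (u : ℤ) ^ 2 * (K : ℤ) ^ 2 := by exact_mod_cast hv
  have h6 : (K : ℤ) ^ 2 * SS (L := L) b μ q ^ 2 ≤ 4 * (Fintype.card A : ℤ) * (Fintype.card L : ℤ) ^ 2 := by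
    refine le_trans ?_ h3
    have h7 : (K : ℤ) ^ 2 ≤ (Nat.card (MulAction.orbit L q) : ℤ) * Nat.card (MulAction.orbit L μ) := by
      rw [pow_two]
      exact mul_le_mul h4 h5 hK'.le (hK'.le.trans h4)
    calc (K : ℤ) ^ 2 * SS (L := L) b μ q ^ 2
        ≤ ((Nat.card (MulAction.orbit L q) : ℤ) * Nat.card (MulAction.orbit L μ)) * SS (L := L) b μ q ^ 2 :=
          mul_le_mul_of_nonneg_right h7 (sq_nonneg _)
      _ = _ := by ring
  have h8 : (K : ℤ) ^ 2 * (v * SS (L := L) b μ q) ^ 2 ≤ (K : ℤ) ^ 2 * (2 * u * Fintype.card L) ^ 2 := by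
    calc (K : ℤ) ^ 2 * (v * SS (L := L) b μ q) ^ 2 = (v : ℤ) ^ 2 * ((K : ℤ) ^ 2 * SS (L := L) b μ q ^ 2) := by ring
      _ ≤ (v : ℤ) ^ 2 * (4 * (Fintype.card A : ℤ) * (Fintype.card L : ℤ) ^ 2) :=
        mul_le_mul_of_nonneg_left h6 (sq_nonneg _)
      _ = 4 * (Fintype.card L : ℤ) ^ 2 * ((v : ℤ) ^ 2 * Fintype.card A) := by ring
      _ ≤ 4 * (Fintype.card L : ℤ) ^ 2 * ((u : ℤ) ^ 2 * (K : ℤ) ^ 2) := mul_le_mul_of_nonneg_left hv' (by positivity)
      _ = _ := by ring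
  have h9 : (v * SS (L := L) b μ q) ^ 2 ≤ (2 * u * Fintype.card L : ℤ) ^ 2 := le_of_mul_le_mul_left h8 (by positivity)
  exact le_of_sq_le_sq h9 (by positivity)

open Classical in
/-- **The sum over the characters trivial on `R`.** -/
theorem sum_fix_le (nd : ∀ μ : M, (∀ q, b μ q = 0) → μ = 0) {D : M → ℝ} (hD0 : ∀ μ, 0 ≤ D μ)
    (hD : ∀ (g : L) (μ : M), D (g • μ) = D μ) (h0 : ∀ (g : L) (μ : M), μ ≠ 0 → g • μ ≠ 0) (R : AddSubgroup A) {x : ℝ}
    (hx : ∀ μ : M, μ ≠ 0 → ((∑ q : R, SS (L := L) b μ q : ℤ) : ℝ) ≤ 2 * x * Nat.card R * Fintype.card L) :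
    ∑ μ ∈ Finset.univ.filter (fun μ : M => μ ≠ 0 ∧ ∀ q ∈ R, b μ q = 0), D μ ≤
      x * ∑ μ ∈ Finset.univ.filter (fun μ : M => μ ≠ 0), D μ := by
  have hR0 : (0 : ℝ) < Nat.card R := by exact_mod_cast Nat.card_pos
  have hL0 : (0 : ℝ) < Fintype.card L := by exact_mod_cast Fintype.card_pos
  -- the number of `g` with `g μ ⟂ R`
  have key : ∀ μ : M, μ ≠ 0 → ((Finset.univ.filter fun g : L => ∀ q ∈ R, b (g • μ) q = 0).card : ℝ) ≤ x * Fintype.card L := by
    intro μ hμ
    have h1 : 2 * (Nat.card R : ℤ) * ((Finset.univ.filter fun g : L => ∀ q ∈ R, b (g • μ) q = 0).card : ℤ) ≤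
        ∑ q : R, SS (L := L) b μ q := by
      have h2 : ∑ q : R, SS (L := L) b μ q = ∑ g : L, ∑ q : R, c3 (b (g • μ) q) := by
        simp only [SS]
        rw [Finset.sum_comm]
      rw [h2, ← Finset.sum_filter_add_sum_filter_not Finset.univ (fun g : L => ∀ q ∈ R, b (g • μ) q = 0)]
      have h3 : ∑ g ∈ Finset.univ.filter (fun g : L => ∀ q ∈ R, b (g • μ) q = 0), ∑ q : R, c3 (b (g • μ) q) =
          2 * (Nat.card R : ℤ) * ((Finset.univ.filter fun g : L => ∀ q ∈ R, b (g • μ) q = 0).card : ℤ) := by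
        rw [Finset.sum_congr rfl (g := fun _ => 2 * (Nat.card R : ℤ)), Finset.sum_const, nsmul_eq_mul, mul_comm]
        intro g hg
        rw [Finset.mem_filter] at hg
        have h4 := sum_c3_zero ((b (g • μ)).comp R.subtype) fun a => hg.2 a a.2
        rw [Nat.card_eq_fintype_card]
        exact h4
      have h5 : 0 ≤ ∑ g ∈ Finset.univ.filter (fun g : L => ¬ ∀ q ∈ R, b (g • μ) q = 0), ∑ q : R, c3 (b (g • μ) q) := by
        refine Finset.sum_nonneg fun g _ => ?_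
        exact sum_c3_nonneg ((b (g • μ)).comp R.subtype)
      rw [h3]
      omega
    have h6 : (2 * (Nat.card R : ℝ) * ((Finset.univ.filter fun g : L => ∀ q ∈ R, b (g • μ) q = 0).card : ℝ)) ≤
        2 * x * Nat.card R * Fintype.card L := by
      refine le_trans ?_ (hx μ hμ)
      exact_mod_cast h1
    have h7 : (2 * (Nat.card R : ℝ)) * ((Finset.univ.filter fun g : L => ∀ q ∈ R, b (g • μ) q = 0).card : ℝ) ≤
        (2 * (Nat.card R : ℝ)) * (x * Fintype.card L) := by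
      calc _ ≤ _ := h6
        _ = _ := by ring
    exact le_of_mul_le_mul_left h7 (by positivity)
  -- the averaging
  have h0' : ∀ (g : L) (μ : M), g • μ ≠ 0 ↔ μ ≠ 0 := by
    intro g μ
    constructor
    · intro h1 h2
      have h3 := h0 g⁻¹ _ h1
      rw [inv_smul_smul] at h3
      exact h3 h2
    · exact h0 g μ
  have h1 : ∀ g : L, ∑ μ ∈ Finset.univ.filter (fun μ : M => μ ≠ 0 ∧ ∀ q ∈ R, b μ q = 0), D μ =
      ∑ μ : M, if μ ≠ 0 ∧ ∀ q ∈ R, b (g • μ) q = 0 then D μ else 0 := by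
    intro g
    rw [Finset.sum_filter]
    refine Fintype.sum_equiv (MulAction.toPerm g⁻¹) _ _ fun μ => ?_
    rw [MulAction.toPerm_apply, smul_inv_smul, hD]
    exact if_congr (and_congr_left' (h0' g⁻¹ μ).symm) rfl rfl
  have h2 : (Fintype.card L : ℝ) * ∑ μ ∈ Finset.univ.filter (fun μ : M => μ ≠ 0 ∧ ∀ q ∈ R, b μ q = 0), D μ ≤
      (Fintype.card L : ℝ) * (x * ∑ μ ∈ Finset.univ.filter (fun μ : M => μ ≠ 0), D μ) := by
    calc (Fintype.card L : ℝ) * ∑ μ ∈ Finset.univ.filter (fun μ : M => μ ≠ 0 ∧ ∀ q ∈ R, b μ q = 0), D μ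
        = ∑ _g : L, ∑ μ ∈ Finset.univ.filter (fun μ : M => μ ≠ 0 ∧ ∀ q ∈ R, b μ q = 0), D μ := by
          rw [Finset.sum_const, Finset.card_univ, nsmul_eq_mul]
      _ = ∑ g : L, ∑ μ : M, if μ ≠ 0 ∧ ∀ q ∈ R, b (g • μ) q = 0 then D μ else 0 := Finset.sum_congr rfl fun g _ => h1 g
      _ = ∑ μ : M, ∑ g : L, if μ ≠ 0 ∧ ∀ q ∈ R, b (g • μ) q = 0 then D μ else 0 := Finset.sum_comm
      _ ≤ ∑ μ : M, if μ ≠ 0 then x * Fintype.card L * D μ else 0 := by
        refine Finset.sum_le_sum fun μ _ => ?_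
        by_cases hμ : μ = 0
        · simp [hμ]
        · rw [if_pos hμ]
          have h3 : ∑ g : L, (if μ ≠ 0 ∧ ∀ q ∈ R, b (g • μ) q = 0 then D μ else 0) =
              ((Finset.univ.filter fun g : L => ∀ q ∈ R, b (g • μ) q = 0).card : ℝ) * D μ := by
            rw [← Finset.sum_filter, Finset.sum_const, nsmul_eq_mul]
            congr 3
            ext g
            simp [hμ]
          rw [h3]
          exact mul_le_mul_of_nonneg_right (key μ hμ) (hD0 μ)
      _ = (Fintype.card L : ℝ) * (x * ∑ μ ∈ Finset.univ.filter (fun μ : M => μ ≠ 0), D μ) := by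
        rw [← Finset.sum_filter, ← Finset.mul_sum]
        ring
  exact le_of_mul_le_mul_left h2 hL0

open Classical in
/-- **The general bound**: `x = |R|⁻¹ + u / v`. -/
theorem sum_fix_le' (inv : ∀ (g : L) (μ : M) (q : A), b (g • μ) (g • q) = b μ q)
    (nd : ∀ μ : M, (∀ q, b μ q = 0) → μ = 0) {u v K : ℕ} (hv0 : 0 < v) {m₀ : M} {w₀ : A}
    (hA : ∀ μ : M, μ ≠ 0 → v * SS (L := L) b μ w₀ ≤ 2 * u * Fintype.card L)
    (hM : ∀ q : A, q ≠ 0 → v * SS (L := L) b m₀ q ≤ 2 * u * Fintype.card L)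
    (oA : ∀ q : A, q ≠ 0 → q ∉ MulAction.orbit L w₀ → K ≤ Nat.card (MulAction.orbit L q))
    (oM : ∀ μ : M, μ ≠ 0 → μ ∉ MulAction.orbit L m₀ → K ≤ Nat.card (MulAction.orbit L μ))
    (hK : 0 < K) (hv : v ^ 2 * Fintype.card A ≤ u ^ 2 * K ^ 2)
    {D : M → ℝ} (hD0 : ∀ μ, 0 ≤ D μ)
    (hD : ∀ (g : L) (μ : M), D (g • μ) = D μ) (h0 : ∀ (g : L) (μ : M), μ ≠ 0 → g • μ ≠ 0) (R : AddSubgroup A) {r : ℕ}
    (hR : r ≤ Nat.card R) (hr : 0 < r) :
    ∑ μ ∈ Finset.univ.filter (fun μ : M => μ ≠ 0 ∧ ∀ q ∈ R, b μ q = 0), D μ ≤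
      ((r : ℝ)⁻¹ + u / v) * ∑ μ ∈ Finset.univ.filter (fun μ : M => μ ≠ 0), D μ := by
  refine sum_fix_le nd hD0 hD h0 R fun μ hμ => ?_
  have h1 : (v : ℤ) * ∑ q : R, SS (L := L) b μ q ≤ 2 * v * Fintype.card L + (Nat.card R) * (2 * u * Fintype.card L) := by
    rw [Finset.mul_sum, Nat.card_eq_fintype_card]
    calc ∑ q : R, (v : ℤ) * SS (L := L) b μ q
        ≤ ∑ q : R, ((if q = 0 then 2 * (v : ℤ) * Fintype.card L else 0) + 2 * u * Fintype.card L) := by
          refine Finset.sum_le_sum fun q _ => ?_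
          split_ifs with hq
          · have h2 : SS (L := L) b μ (q : A) ≤ 2 * Fintype.card L := by
              rw [SS]
              calc ∑ g : L, c3 (b (g • μ) q) ≤ ∑ _g : L, 2 := Finset.sum_le_sum fun g _ => c3_le _
                _ = _ := by rw [Finset.sum_const, Finset.card_univ, nsmul_eq_mul, mul_comm]
            have h3 : (0 : ℤ) ≤ v := by positivity
            have h4 : (0 : ℤ) ≤ 2 * u * Fintype.card L := by positivity
            nlinarith
          · have h2 : (q : A) ≠ 0 := fun h => hq (Subtype.ext h)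
            rw [zero_add]
            exact SS_le inv nd hA hM oA oM hK hv hμ h2
      _ = 2 * v * Fintype.card L + (Fintype.card R) * (2 * u * Fintype.card L) := by
        rw [Finset.sum_add_distrib, Finset.sum_ite_eq' Finset.univ (0 : R), if_pos (Finset.mem_univ _), Finset.sum_const,
          Finset.card_univ, nsmul_eq_mul]
  have h2 : (v : ℝ) * ((∑ q : R, SS (L := L) b μ q : ℤ) : ℝ) ≤
      2 * v * Fintype.card L + (Nat.card R) * (2 * u * Fintype.card L) := by exact_mod_cast h1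
  have hv1 : (0 : ℝ) < v := by exact_mod_cast hv0
  have hr1 : (0 : ℝ) < r := by exact_mod_cast hr
  have hR1 : (r : ℝ) ≤ Nat.card R := by exact_mod_cast hR
  have h3 : (v : ℝ) * (2 * ((r : ℝ)⁻¹ + u / v) * Nat.card R * Fintype.card L) =
      2 * v * Fintype.card L * (Nat.card R * (r : ℝ)⁻¹) + (Nat.card R) * (2 * u * Fintype.card L) := by
    field_simp
  have h4 : 1 ≤ (Nat.card R : ℝ) * (r : ℝ)⁻¹ := by
    rw [← div_eq_mul_inv, one_le_div hr1]
    exact hR1
  have h5 : (v : ℝ) * ((∑ q : R, SS (L := L) b μ q : ℤ) : ℝ) ≤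
      (v : ℝ) * (2 * ((r : ℝ)⁻¹ + u / v) * Nat.card R * Fintype.card L) := by
    rw [h3]
    refine h2.trans ?_
    have h6 : (0 : ℝ) ≤ 2 * v * Fintype.card L := by positivity
    nlinarith
  exact le_of_mul_le_mul_left h5 hv1

end Cfsg.Agent.H980.RB.Four
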