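import Cfsg.Agent.H980.RB.Step3
import Cfsg.Agent.H520.FC.Defs

/-!
# `F₄(q)`: elements which centralise a long root element (S2452, step 3; helper980)

* `xt K` : the root group of the highest root, `Hei (xt K) (VK K {k | k ≠ 3})` from the commutators (`hei_of`);
* `step3F` : `‖χ x‖ ≤ r χ(1)` on `V_J ∖ 1` and `|{x ∈ V_J : [x, g] ∈ X_θ}| ≤ s² |V_J|` for `g ∈ C(X_θ) ∖ V_J`:
  `‖χ g‖ ≤ (r + s) χ(1)` for all `g ≠ 1` which centralise a long root element.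
-/

set_option autoImplicit false
set_option linter.unusedSectionVars false

namespace Cfsg.Agent.H980.RB

open CoxeterSystem Cfsg.Agent.ChevalleyStructure.CoxeterGeom Cfsg.Agent.Tits.Roots Cfsg.Agent.Tits.Core
  Cfsg.Agent.Tits.Exchange Cfsg.Agent.Nodes.Reps Cfsg.Agent.Nodes.BNOf Cfsg.Agent.Nodes.StabComb
  Cfsg.Agent.Nodes.Bruhat Cfsg.Agent.Nodes.OppDec Cfsg.Agent.Nodes.LeviDec Cfsg.Agent.Nodes.NormX
  Cfsg.Agent.Nodes.Coroot Cfsg.Agent.Nodes.RGDChev Cfsg.Agent.KFacts.RgdPar Cfsg.Agent.KFacts.RgdTI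
  Cfsg.Agent.KFacts.RgdCent Cfsg.Agent.KFacts.RgdChevCoord Cfsg.Agent.Nodes.ChevCls
  Cfsg.Agent.OddHalf.NI.ModelChev Cfsg.Agent.H225.PPow
open Cfsg.Lie Cfsg.Agent.ChevalleyStructure Cfsg.Agent.ChevalleyStructure.Elts
  Cfsg.Agent.ChevalleyStructure.RootVec Cfsg.Agent.ChevalleyStructure.NPerm
  Cfsg.Agent.ChevalleyStructure.CoxeterGeomTypes
open Cfsg.Agent.H701.F43.Cent Cfsg.Agent.H520.FC
open Module

universe u

variable {K : Type u} [Field K] [Finite K]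

theorem xt_add (a b : K) :
    xc hF (vec chevF4 4 47) (a + b) = xc hF (vec chevF4 4 47) a * xc hF (vec chevF4 4 47) b := by
  obtain ⟨p, hpc⟩ := CharP.exists K
  have : Fact p.Prime := ⟨CharP.char_is_prime K p⟩
  exact ((coords (K := K) hF cF p).coord _ isRoot_theta).add a b

theorem xt_zero : xc hF (vec chevF4 4 47) (0 : K) = 1 := by
  obtain ⟨p, hpc⟩ := CharP.exists K
  have : Fact p.Prime := ⟨CharP.char_is_prime K p⟩
  exact ((coords (K := K) hF cF p).coord _ isRoot_theta).zero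

theorem mem_XT {z : ↥(chevF4.group K)} : z ∈ XT K ↔ ∃ a, xc hF (vec chevF4 4 47) a = z := by
  obtain ⟨p, hpc⟩ := CharP.exists K
  have : Fact p.Prime := ⟨CharP.char_is_prime K p⟩
  exact ((coords (K := K) hF cF p).coord _ isRoot_theta).mem z

/-- the root group of the highest root -/
noncomputable def xt (K : Type u) [Field K] [Finite K] : Multiplicative K →* ↥(chevF4.group K) where
  toFun t := xc hF (vec chevF4 4 47) (Multiplicative.toAdd t)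
  map_one' := xt_zero
  map_mul' _ _ := xt_add _ _

theorem xt_apply (t : Multiplicative K) : xt K t = xc hF (vec chevF4 4 47) (Multiplicative.toAdd t) := rfl

theorem xt_mem (t : Multiplicative K) : xt K t ∈ XT K := mem_XT.2 ⟨_, rfl⟩

theorem xt_range : (xt K).range = XT K := by
  ext z
  rw [mem_XT]
  constructor
  · rintro ⟨t, rfl⟩
    exact ⟨_, rfl⟩
  · rintro ⟨a, rfl⟩
    exact ⟨Multiplicative.ofAdd a, rfl⟩

theorem XT_le_VK : XT K ≤ VK K {k | k ≠ 3} := by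
  have h1 : vec chevF4 4 47 ∈ NotJ cF hF.isCartan J3 := mem_NotJ_iff.2 ⟨47, by decide, rfl⟩
  exact RGD.le_Sup h1

theorem hei_of (hcom : ∀ a ∈ VK K {k | k ≠ 3}, ∀ b ∈ VK K {k | k ≠ 3}, a * b * a⁻¹ * b⁻¹ ∈ XT K)
    (hnd : ∀ v ∈ VK K {k | k ≠ 3}, v ∉ XT K → ∀ z ∈ XT K, ∃ w ∈ VK K {k | k ≠ 3}, w * v * w⁻¹ * v⁻¹ = z) :
    Hei (xt K) (VK K {k | k ≠ 3}) where
  mem t := XT_le_VK (xt_mem t)
  cen q hq t := comm_theta (le_sup_left (a := VV K) hq) (xt_mem t)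
  com q hq q' hq' := by
    rw [xt_range]
    exact hcom q hq q' hq'
  nd q hq hqX t := by
    rw [xt_range] at hqX
    exact hnd q hq hqX _ (xt_mem _)

theorem mem_sup {g z : ↥(chevF4.group K)} (hz : z ∈ XT K) (hz1 : z ≠ 1) (hg : g * z = z * g) : g ∈ VV K ⊔ MM K := by
  obtain ⟨c, rfl⟩ := mem_XT.1 hz
  have hc : c ≠ 0 := by
    rintro rfl
    exact hz1 xt_zero
  obtain ⟨v, hv, m, hm, rfl⟩ := cent hc hg
  exact mul_mem (le_sup_left (a := VV K) hv) (le_sup_right (a := VV K) hm)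

theorem norm_VV {g : ↥(chevF4.group K)} (hg : g ∈ VV K ⊔ MM K) (q : ↥(chevF4.group K)) :
    q ∈ VV K ↔ g * q * g⁻¹ ∈ VV K := by
  obtain ⟨p, hpc⟩ := CharP.exists K
  have : Fact p.Prime := ⟨CharP.char_is_prime K p⟩
  have h1 : VV K ⊔ MM K ≤ Subgroup.normalizer (VV K : Set ↥(chevF4.group K)) :=
    sup_le Subgroup.le_normalizer (MM_le_normalizer p)
  exact Subgroup.mem_normalizer_iff.1 (h1 hg) q

variable {V : Type*} [AddCommGroup V] [Module ℂ V] [FiniteDimensional ℂ V]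

/-- **Elements which centralise a long root element.** -/
theorem step3F (H : Hei (xt K) (VK K {k | k ≠ 3})) (ρ : Representation ℂ ↥(chevF4.group K) V)
    {r s : ℝ} (hr0 : 0 ≤ r) (hs0 : 0 ≤ s) (hs1 : s ≤ 1)
    (hr : ∀ x ∈ VK K {k | k ≠ 3}, x ≠ 1 → ‖ρ.character x‖ ≤ r * finrank ℂ V)
    {g z : ↥(chevF4.group K)} (hg1 : g ≠ 1) (hz : z ∈ XT K) (hz1 : z ≠ 1) (hgz : g * z = z * g)
    (hX : g ∉ VK K {k | k ≠ 3} → (Nat.card {x : ↥(VK K {k | k ≠ 3}) //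
      (x : ↥(chevF4.group K)) * g * (x : ↥(chevF4.group K))⁻¹ * g⁻¹ ∈ XT K} : ℝ) ≤ s ^ 2 * Nat.card ↥(VK K {k | k ≠ 3})) :
    ‖ρ.character g‖ ≤ (r + s) * finrank ℂ V := by
  have hd : (0 : ℝ) ≤ finrank ℂ V := Nat.cast_nonneg _
  have := Fintype.ofFinite K
  by_cases hgQ : g ∈ VK K {k | k ≠ 3}
  · refine (hr g hgQ hg1).trans ?_
    have := mul_nonneg hs0 hd
    linarith
  · have h1 := mem_sup hz hz1 hgz
    have h2 := ratio_out ρ H (fun t => comm_theta h1 (xt_mem t)) (fun q => norm_VV h1 q) (B := r * finrank ℂ V)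
      (mul_nonneg hr0 hd) (fun q hq hqX => hr q hq fun h3 => hqX (by rw [h3]; exact one_mem _)) hs0 hs1
      (by rw [xt_range]; exact hX hgQ)
    have h3 : (r + s) * (finrank ℂ V : ℝ) = r * finrank ℂ V + s * finrank ℂ V := by ring
    rw [h3]
    exact h2

/-- `q ≥ 9`, `|{x ∈ V_J : [x, g] ∈ X_θ}| ≤ q^12`: `‖χ g‖ ≤ (r + 1 / 27) χ(1)` -/
theorem step3F_nine (H : Hei (xt K) (VK K {k | k ≠ 3})) (hc : Nat.card ↥(VK K {k | k ≠ 3}) = Nat.card K ^ 15)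
    (hq : 9 ≤ Nat.card K) (ρ : Representation ℂ ↥(chevF4.group K) V) {r : ℝ} (hr0 : 0 ≤ r)
    (hr : ∀ x ∈ VK K {k | k ≠ 3}, x ≠ 1 → ‖ρ.character x‖ ≤ r * finrank ℂ V)
    {g z : ↥(chevF4.group K)} (hg1 : g ≠ 1) (hz : z ∈ XT K) (hz1 : z ≠ 1) (hgz : g * z = z * g)
    (hX : g ∉ VK K {k | k ≠ 3} → Nat.card {x : ↥(VK K {k | k ≠ 3}) //
      (x : ↥(chevF4.group K)) * g * (x : ↥(chevF4.group K))⁻¹ * g⁻¹ ∈ XT K} ≤ Nat.card K ^ 12) :
    ‖ρ.character g‖ ≤ (r + 1 / 27) * finrank ℂ V := by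
  refine step3F H ρ hr0 (by norm_num) (by norm_num) hr hg1 hz hz1 hgz fun h1 => ?_
  have h2 : (Nat.card {x : ↥(VK K {k | k ≠ 3}) //
      (x : ↥(chevF4.group K)) * g * (x : ↥(chevF4.group K))⁻¹ * g⁻¹ ∈ XT K} : ℝ) ≤ (Nat.card K : ℝ) ^ 12 := by
    exact_mod_cast hX h1
  refine h2.trans ?_
  rw [hc]
  push_cast
  have h3 : (9 : ℝ) ≤ Nat.card K := by exact_mod_cast hq
  generalize (Nat.card K : ℝ) = x at h3 ⊢
  have h4 : (9 : ℝ) ^ 3 ≤ x ^ 3 := pow_le_pow_left₀ (by norm_num) h3 3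
  have h5 : (0 : ℝ) ≤ x ^ 12 := by positivity
  calc x ^ 12 = (1 / 27) ^ 2 * ((9 : ℝ) ^ 3 * x ^ 12) := by ring
    _ ≤ (1 / 27) ^ 2 * (x ^ 3 * x ^ 12) := by gcongr
    _ = (1 / 27) ^ 2 * x ^ 15 := by ring

end Cfsg.Agent.H980.RB
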