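import Cfsg.Agent.H980.RB.Cut
import Cfsg.Agent.H323.Pw.Odd

/-!
# Trace bounds along an extraspecial normal subgroup (S2464, `F₄(3)`, box T4; helper980)

`XS 3 Q z`, `ρ` a representation of the finite group `H`, `a = dim V^z`:

* `finrank_fix` : the dimension of the fixed space of `[Q, g]` in a representation in which `Q` acts abelian;
* `tr_fix_abs` : `‖tr q‖ ≤ B` on `Q ∖ ⟨z⟩`, `|FixX g| ≤ 3⁹`, `|Q| = 3¹⁵`: `‖tr g‖ ≤ a / 729 + B + (dim V - a) / 27`;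
* `tr_conj_abs` : `g` conjugate to `g z` under `Q`, `|FixX g| ≤ 3¹²`: `‖tr g‖ ≤ a / 27 + B`.
-/

set_option autoImplicit false

namespace Cfsg.Agent.H980.RB

open Module Cfsg.Agent.H323.Pw

section

variable {G : Type*} [Group G] {V : Type*} [AddCommGroup V] [Module ℂ V]

/-- the dimension of the space fixed by `[Q, g]`, `Q` acting as an abelian group -/
theorem finrank_fix [Finite G] [FiniteDimensional ℂ V] (ρ : Representation ℂ G V) (Q : Subgroup G) [Fintype ↥Q]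
    (hQ : ∀ q ∈ Q, ∀ q' ∈ Q, ρ q * ρ q' = ρ q' * ρ q) (g : G) (hg : ∀ q, q ∈ Q ↔ g * q * g⁻¹ ∈ Q) :
    (Fintype.card ↥Q : ℂ) * finrank ℂ ↥(fixM ρ (comSet Q g)) =
      ∑ q : ↥Q, LinearMap.trace ℂ V (ρ ((q : G) * g * (q : G)⁻¹ * g⁻¹)) := by
  classical
  set W := fixM ρ (comSet Q g) with hW
  have hN : (Fintype.card ↥Q : ℂ) ≠ 0 := by
    exact_mod_cast Fintype.card_ne_zero
  have hcm : ∀ q ∈ Q, q * g * q⁻¹ * g⁻¹ ∈ Q := by
    intro q hq
    have h1 := (hg _).1 (Q.inv_mem hq)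
    have h2 : q * g * q⁻¹ * g⁻¹ = q * (g * q⁻¹ * g⁻¹) := by group
    rw [h2]
    exact Q.mul_mem hq h1
  set e : V →ₗ[ℂ] V := (Fintype.card ↥Q : ℂ)⁻¹ • ∑ q : ↥Q, ρ ((q : G) * g * (q : G)⁻¹ * g⁻¹) with he
  have hmul : ∀ q q' : ↥Q, ρ (((q * q' : ↥Q) : G) * g * ((q * q' : ↥Q) : G)⁻¹ * g⁻¹) =
      ρ ((q' : G) * g * (q' : G)⁻¹ * g⁻¹) * ρ ((q : G) * g * (q : G)⁻¹ * g⁻¹) := by
    intro q q'
    have h1 : ((q * q' : ↥Q) : G) * g * ((q * q' : ↥Q) : G)⁻¹ * g⁻¹ =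
        (q : G) * ((q' : G) * g * (q' : G)⁻¹ * g⁻¹) * (q : G)⁻¹ * ((q : G) * g * (q : G)⁻¹ * g⁻¹) := by
      rw [Subgroup.coe_mul]; group
    have h2 : ρ (q : G) * ρ (q : G)⁻¹ = 1 := by rw [← map_mul, mul_inv_cancel, map_one]
    rw [h1, map_mul, map_mul, map_mul, hQ _ q.2 _ (hcm _ q'.2), mul_assoc (ρ ((q' : G) * g * (q' : G)⁻¹ * g⁻¹)), h2, mul_one]
  have heW : ∀ v, e v ∈ W := by
    rintro v r ⟨q, hq, rfl⟩
    rw [he, LinearMap.smul_apply, map_smul, LinearMap.sum_apply, map_sum]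
    congr 1
    rw [← Equiv.sum_comp (Equiv.mulRight (⟨q, hq⟩ : ↥Q)) (fun q' : ↥Q => ρ ((q' : G) * g * (q' : G)⁻¹ * g⁻¹) v)]
    refine Finset.sum_congr rfl fun q' _ => ?_
    rw [Equiv.coe_mulRight, hmul q' ⟨q, hq⟩]
    rfl
  have heW' : ∀ w ∈ W, e w = w := by
    intro w hw
    rw [he, LinearMap.smul_apply, LinearMap.sum_apply]
    have h1 : ∀ q : ↥Q, ρ ((q : G) * g * (q : G)⁻¹ * g⁻¹) w = w := fun q => hw _ ⟨q, q.2, rfl⟩
    rw [Finset.sum_congr rfl fun q _ => h1 q, Finset.sum_const, Finset.card_univ, ← Nat.cast_smul_eq_nsmul ℂ, smul_smul,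
      inv_mul_cancel₀ hN, one_smul]
  have h3 : LinearMap.trace ℂ V e = finrank ℂ W := by
    rw [← LinearMap.trace_restrict_eq_of_forall_mem W e heW, ← LinearMap.trace_one ℂ W]
    congr 1
    ext w
    simp only [LinearMap.coe_restrict_apply, Module.End.one_apply]
    rw [heW' _ w.2]
  rw [← h3, he, map_smul, map_sum, smul_eq_mul, ← mul_assoc, mul_inv_cancel₀ hN, one_mul]

end

variable {H : Type*} [Group H] {V : Type*} [AddCommGroup V] [Module ℂ V] {Q : Subgroup H} {z : H}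

theorem xs_pow (h : XS 3 Q z) : z ^ 3 = 1 := by rw [← h.ord, pow_orderOf_eq_one]

theorem xs_norm (h : XS 3 Q z) (g q : H) : q ∈ Q ↔ g * q * g⁻¹ ∈ Q := by
  constructor
  · exact fun hq => h.normal.conj_mem q hq g
  · intro hq
    have h1 := h.normal.conj_mem _ hq g⁻¹
    have h2 : g⁻¹ * (g * q * g⁻¹) * g⁻¹⁻¹ = q := by group
    rwa [h2] at h1

theorem xs_nd (h : XS 3 Q z) : ∀ q ∈ Q, q ∉ Subgroup.zpowers z →
    ∃ q' ∈ Q, q' * q * q'⁻¹ * q⁻¹ ∈ Subgroup.zpowers z ∧ q' * q * q'⁻¹ * q⁻¹ ≠ 1 := by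
  intro q hq hqz
  by_contra hne
  push Not at hne
  apply hqz
  refine h.nd q hq fun y hy => ?_
  have h1 := hne y hy (h.comm y hy q hq)
  have h2 : y * q = q * y := by
    calc y * q = (y * q * y⁻¹ * q⁻¹) * (q * y) := by group
      _ = q * y := by rw [h1, one_mul]
  exact h2.symm

theorem fixX_iff (g x : H) : x * g * x⁻¹ * g⁻¹ ∈ Subgroup.zpowers z ↔ g * x * g⁻¹ * x⁻¹ ∈ Subgroup.zpowers z := by
  rw [← Subgroup.inv_mem_iff]
  have h1 : (x * g * x⁻¹ * g⁻¹)⁻¹ = g * x * g⁻¹ * x⁻¹ := by group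
  rw [h1]

theorem card_K (g : H) : Nat.card {x : ↥Q // (x : H) * g * (x : H)⁻¹ * g⁻¹ ∈ Subgroup.zpowers z} = Nat.card (FixX Q z g) :=
  Nat.card_congr (Equiv.subtypeEquivRight fun x => fixX_iff g x)

/-- `tr (e_Z g)` -/
theorem trace_prj_one (ρ : Representation ℂ H V) (g : H) :
    LinearMap.trace ℂ V (prj ρ z 1 * ρ g) = (3 : ℂ)⁻¹ * (LinearMap.trace ℂ V (ρ g) + LinearMap.trace ℂ V (ρ (z * g)) +
      LinearMap.trace ℂ V (ρ (z ^ 2 * g))) := by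
  rw [prj, one_pow, one_smul, one_smul, smul_mul_assoc, map_smul, smul_eq_mul, add_mul, add_mul, one_mul, ← map_mul,
    ← map_mul, map_add, map_add]

section

variable [Finite H] [FiniteDimensional ℂ V]

/-- the dimension of the space fixed by `z` and `[Q, g]` -/
theorem finrank_fixM_le (h : XS 3 Q z) (ρ : Representation ℂ H V) (g : H) {B : ℝ} (hB0 : 0 ≤ B)
    (hB : ∀ q ∈ Q, q ∉ Subgroup.zpowers z → ‖LinearMap.trace ℂ V (ρ q)‖ ≤ B) {t : ℝ}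
    (hc : (Nat.card (FixX Q z g) : ℝ) ≤ t * Nat.card Q) :
    (finrank ℂ ↥(fixM ρ (insert z (comSet Q g))) : ℝ) ≤ t * finrank ℂ ↥(eigM ρ z 1) + B := by
  classical
  have := Fintype.ofFinite ↥Q
  have hz3 := xs_pow h
  have hzc := h.central
  set σ := resRep ρ (eigM ρ z 1) (eigM_inv hzc 1) with hσ
  have hQσ : ∀ q ∈ Q, ∀ q' ∈ Q, σ q * σ q' = σ q' * σ q := by
    intro q hq q' hq'
    obtain ⟨k, hk⟩ := exists_pow_of_mem hz3 (h.comm q hq q' hq')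
    have h1 : q * q' = (q * q' * q⁻¹ * q'⁻¹) * (q' * q) := by group
    rw [← map_mul, h1, hk, map_mul, hσ, res_pow hzc, one_pow, one_smul, one_mul, map_mul]
  have h1 : (fixM ρ (insert z (comSet Q g))) ≤ (fixM σ (comSet Q g)).map (eigM ρ z 1).subtype := by
    intro v hv
    have h2 : v ∈ eigM ρ z 1 := by
      rw [mem_eigM, one_smul]
      exact hv z (Set.mem_insert _ _)
    refine ⟨⟨v, h2⟩, fun s hs => ?_, rfl⟩
    apply Subtype.ext
    rw [hσ, resRep_apply]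
    exact hv s (Set.mem_insert_of_mem _ hs)
  have h2 : (finrank ℂ ↥(fixM ρ (insert z (comSet Q g))) : ℝ) ≤ finrank ℂ ↥(fixM σ (comSet Q g)) := by
    have h3 := Submodule.finrank_mono h1
    rw [← (Submodule.equivMapOfInjective (eigM ρ z 1).subtype Subtype.val_injective _).finrank_eq] at h3
    exact_mod_cast h3
  refine h2.trans ?_
  have h4 := finrank_fix σ Q hQσ g (xs_norm h g)
  -- the terms
  have hN : (0 : ℝ) < Fintype.card ↥Q := by exact_mod_cast Fintype.card_pos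
  have h5 : ∀ q : ↥Q, ‖LinearMap.trace ℂ ↥(eigM ρ z 1) (σ ((q : H) * g * (q : H)⁻¹ * g⁻¹))‖ ≤
      if (q : H) * g * (q : H)⁻¹ * g⁻¹ ∈ Subgroup.zpowers z then (finrank ℂ ↥(eigM ρ z 1) : ℝ) else B := by
    intro q
    split_ifs with hq
    · exact norm_trace_le σ _
    · rw [hσ, ← trace_proj' ρ (eigM ρ z 1) (eigM_inv hzc 1) (prj ρ z 1) (prj_mem hz3 (one_pow 3))
        (fun w hw => prj_eq (one_pow 3) hw), trace_prj_one]
      have hqQ : (q : H) * g * (q : H)⁻¹ * g⁻¹ ∈ Q := by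
        have h6 : (q : H) * g * (q : H)⁻¹ * g⁻¹ = (q : H) * (g * (q : H)⁻¹ * g⁻¹) := by group
        rw [h6]
        exact Q.mul_mem q.2 ((xs_norm h g _).1 (Q.inv_mem q.2))
      generalize (q : H) * g * (q : H)⁻¹ * g⁻¹ = r at hq hqQ
      have h7 : ∀ k : ℕ, ‖LinearMap.trace ℂ V (ρ (z ^ k * r))‖ ≤ B := by
        intro k
        refine hB _ (Q.mul_mem (Q.pow_mem h.mem k) hqQ) fun h8 => hq ?_
        have h9 := Subgroup.mul_mem _ (Subgroup.inv_mem _ (Subgroup.pow_mem _ (Subgroup.mem_zpowers z) k)) h8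
        rwa [inv_mul_cancel_left] at h9
      have h8 := h7 0
      have h9 := h7 1
      have h10 := h7 2
      rw [pow_zero, one_mul] at h8
      rw [pow_one] at h9
      rw [norm_mul, norm_inv, Complex.norm_ofNat]
      have h11 : ‖LinearMap.trace ℂ V (ρ r) + LinearMap.trace ℂ V (ρ (z * r)) + LinearMap.trace ℂ V (ρ (z ^ 2 * r))‖ ≤ 3 * B := by
        refine norm_add₃_le.trans ?_
        linarith
      calc (3 : ℝ)⁻¹ * ‖LinearMap.trace ℂ V (ρ r) + LinearMap.trace ℂ V (ρ (z * r)) + LinearMap.trace ℂ V (ρ (z ^ 2 * r))‖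
          ≤ (3 : ℝ)⁻¹ * (3 * B) := mul_le_mul_of_nonneg_left h11 (by norm_num)
        _ = B := by ring
  have h6 : (Fintype.card ↥Q : ℝ) * finrank ℂ ↥(fixM σ (comSet Q g)) ≤
      Nat.card (FixX Q z g) * finrank ℂ ↥(eigM ρ z 1) + Fintype.card ↥Q * B := by
    have h7 : ‖((Fintype.card ↥Q : ℂ) * finrank ℂ ↥(fixM σ (comSet Q g)))‖ =
        (Fintype.card ↥Q : ℝ) * finrank ℂ ↥(fixM σ (comSet Q g)) := by
      rw [norm_mul, Complex.norm_natCast, Complex.norm_natCast]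
    rw [← h7, h4]
    refine (norm_sum_le _ _).trans ((Finset.sum_le_sum fun q _ => h5 q).trans ?_)
    have h8 : ∀ q : ↥Q, (if (q : H) * g * (q : H)⁻¹ * g⁻¹ ∈ Subgroup.zpowers z then (finrank ℂ ↥(eigM ρ z 1) : ℝ) else B) ≤
        (if (q : H) * g * (q : H)⁻¹ * g⁻¹ ∈ Subgroup.zpowers z then (finrank ℂ ↥(eigM ρ z 1) : ℝ) else 0) + B := by
      intro q
      split_ifs
      · linarith
      · linarith
    refine (Finset.sum_le_sum fun q _ => h8 q).trans ?_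
    rw [Finset.sum_add_distrib, ← Finset.sum_filter, Finset.sum_const, Finset.sum_const, Finset.card_univ, nsmul_eq_mul,
      nsmul_eq_mul]
    have h9 : (Finset.univ.filter fun q : ↥Q => (q : H) * g * (q : H)⁻¹ * g⁻¹ ∈ Subgroup.zpowers z).card =
        Nat.card (FixX Q z g) := by
      rw [← card_K, Nat.card_eq_fintype_card, Fintype.card_subtype]
    rw [h9]
  have hQc : (Nat.card Q : ℝ) = Fintype.card ↥Q := by rw [Nat.card_eq_fintype_card]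
  rw [hQc] at hc
  have h7 : (Fintype.card ↥Q : ℝ) * finrank ℂ ↥(fixM σ (comSet Q g)) ≤
      (Fintype.card ↥Q : ℝ) * (t * finrank ℂ ↥(eigM ρ z 1) + B) := by
    refine h6.trans ?_
    have h8 : (Nat.card (FixX Q z g) : ℝ) * finrank ℂ ↥(eigM ρ z 1) ≤ t * Fintype.card ↥Q * finrank ℂ ↥(eigM ρ z 1) :=
      mul_le_mul_of_nonneg_right hc (Nat.cast_nonneg _)
    calc (Nat.card (FixX Q z g) : ℝ) * finrank ℂ ↥(eigM ρ z 1) + Fintype.card ↥Q * B
        ≤ t * Fintype.card ↥Q * finrank ℂ ↥(eigM ρ z 1) + Fintype.card ↥Q * B := by linarith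
      _ = _ := by ring
  exact le_of_mul_le_mul_left h7 hN

/-- **`|FixX g| ≤ s² |Q|`.** -/
theorem tr_fix_gen (h : XS 3 Q z) (ρ : Representation ℂ H V) (g : H) {B : ℝ} (hB0 : 0 ≤ B)
    (hB : ∀ q ∈ Q, q ∉ Subgroup.zpowers z → ‖LinearMap.trace ℂ V (ρ q)‖ ≤ B) {s : ℝ} (hs : 0 ≤ s)
    (hc : (Nat.card (FixX Q z g) : ℝ) ≤ s ^ 2 * Nat.card Q) :
    ‖LinearMap.trace ℂ V (ρ g)‖ ≤ s ^ 2 * finrank ℂ ↥(eigM ρ z 1) + B +
      (finrank ℂ V - finrank ℂ ↥(eigM ρ z 1)) * s := by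
  have h1 := ratio (g := g) ρ (xs_pow h) h.central h.mem h.comm (xs_nd h) (xs_norm h g) hs (by rw [card_K]; exact hc)
  have h2 := finrank_fixM_le h ρ g hB0 hB hc
  linarith

/-- **`[x, g] ∈ ⟨z⟩ ∖ 1` for some `x`.** -/
theorem tr_conj_gen (h : XS 3 Q z) (ρ : Representation ℂ H V) (g : H) {B : ℝ} (hB0 : 0 ≤ B)
    (hB : ∀ q ∈ Q, q ∉ Subgroup.zpowers z → ‖LinearMap.trace ℂ V (ρ q)‖ ≤ B) {t : ℝ}
    (hc : (Nat.card (FixX Q z g) : ℝ) ≤ t * Nat.card Q) {x : H} (hx : x * g * x⁻¹ * g⁻¹ ∈ Subgroup.zpowers z)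
    (hx1 : x * g * x⁻¹ * g⁻¹ ≠ 1) :
    ‖LinearMap.trace ℂ V (ρ g)‖ ≤ t * finrank ℂ ↥(eigM ρ z 1) + B :=
  (ratio_zero (g := g) ρ (xs_pow h) h.central h.comm (xs_norm h g) hx hx1).trans (finrank_fixM_le h ρ g hB0 hB hc)

omit [Finite H] in
/-- `dim V^z` from the traces -/
theorem finrank_eig_one (h : XS 3 Q z) (ρ : Representation ℂ H V)
    (hreal : LinearMap.trace ℂ V (ρ (z ^ 2)) = LinearMap.trace ℂ V (ρ z)) :
    (finrank ℂ ↥(eigM ρ z 1) : ℂ) = (finrank ℂ V + 2 * LinearMap.trace ℂ V (ρ z)) / 3 := by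
  have h2 := trace_proj' ρ (eigM ρ z 1) (eigM_inv h.central 1) (prj ρ z 1) (prj_mem (xs_pow h) (one_pow 3))
    (fun w hw => prj_eq (one_pow 3) hw) 1
  rw [trace_prj_one, mul_one, mul_one, map_one ρ, map_one (resRep ρ _ _), LinearMap.trace_one, hreal,
    LinearMap.trace_one] at h2
  rw [← h2]
  ring

end

end Cfsg.Agent.H980.RB
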