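import Cfsg.Agent.H980.RB.CutQ
import Cfsg.Agent.H980.RB.Trace

/-!
# Trace bounds along a root group (S2452, `F₄(q)`; helper980)

* `finrank_fixQ_le` : `‖tr q‖ ≤ B` on `Q ∖ X`, `|{x ∈ Q : [x, g] ∈ X}| ≤ t |Q|`: `dim V^(X, [Q, g]) ≤ t dim V^X + B`;
* `tr_fixQ`, `tr_conjQ` : combined with `ratioQ`, `ratioQ_zero`;
* `finrank_isoQ` : `dim V^X` from the traces.
-/

set_option autoImplicit false

namespace Cfsg.Agent.H980.RB

open Module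

variable {G : Type*} [Group G] {V : Type*} [AddCommGroup V] [Module ℂ V] {F : Type*} [AddCommGroup F] [Fintype F]

/-- `tr (e_X g)` -/
theorem trace_prjQ_one (ρ : Representation ℂ G V) (X : Multiplicative F →* G) (g : G) :
    LinearMap.trace ℂ V (prjQ ρ X 1 * ρ g) =
      (Fintype.card F : ℂ)⁻¹ * ∑ t : F, LinearMap.trace ℂ V (ρ (X (Multiplicative.ofAdd t) * g)) := by
  rw [prjQ, smul_mul_assoc, map_smul, smul_eq_mul, Finset.sum_mul, map_sum]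
  congr 1
  refine Finset.sum_congr rfl fun t _ => ?_
  rw [AddChar.one_apply, one_smul, ← map_mul]

variable [Finite G] [FiniteDimensional ℂ V] {X : Multiplicative F →* G} {Q : Subgroup G} {g : G}

/-- the dimension of the space fixed by `X` and `[Q, g]` -/
theorem finrank_fixQ_le (ρ : Representation ℂ G V) (hX : ∀ (t : Multiplicative F) (g : G), g * X t = X t * g)
    (hXQ : ∀ t, X t ∈ Q) (hQX : ∀ q ∈ Q, ∀ q' ∈ Q, q * q' * q⁻¹ * q'⁻¹ ∈ X.range) (hg : ∀ q, q ∈ Q ↔ g * q * g⁻¹ ∈ Q)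
    {B : ℝ} (hB0 : 0 ≤ B) (hB : ∀ q ∈ Q, q ∉ X.range → ‖LinearMap.trace ℂ V (ρ q)‖ ≤ B) {t : ℝ}
    (hc : (Nat.card {x : ↥Q // (x : G) * g * (x : G)⁻¹ * g⁻¹ ∈ X.range} : ℝ) ≤ t * Nat.card Q) :
    (finrank ℂ ↥(fixM ρ ((X.range : Set G) ∪ comSet Q g)) : ℝ) ≤ t * finrank ℂ ↥(isoM ρ X 1) + B := by
  classical
  have := Fintype.ofFinite ↥Q
  set σ := resRep ρ (isoM ρ X 1) (isoM_inv hX 1) with hσ
  have hQσ : ∀ q ∈ Q, ∀ q' ∈ Q, σ q * σ q' = σ q' * σ q := resQ_comm hX hQX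
  have h1 : fixM ρ ((X.range : Set G) ∪ comSet Q g) ≤ (fixM σ (comSet Q g)).map (isoM ρ X 1).subtype := by
    intro v hv
    have h2 : v ∈ isoM ρ X 1 := by
      intro t
      rw [AddChar.one_apply, one_smul]
      exact hv _ (Or.inl ⟨Multiplicative.ofAdd t, rfl⟩)
    refine ⟨⟨v, h2⟩, fun s hs => ?_, rfl⟩
    apply Subtype.ext
    rw [hσ, resRep_apply]
    exact hv s (Or.inr hs)
  have h2 : (finrank ℂ ↥(fixM ρ ((X.range : Set G) ∪ comSet Q g)) : ℝ) ≤ finrank ℂ ↥(fixM σ (comSet Q g)) := by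
    have h3 := Submodule.finrank_mono h1
    rw [← (Submodule.equivMapOfInjective (isoM ρ X 1).subtype Subtype.val_injective _).finrank_eq] at h3
    exact_mod_cast h3
  refine h2.trans ?_
  have h4 := finrank_fix σ Q hQσ g hg
  have hN : (0 : ℝ) < Fintype.card ↥Q := by exact_mod_cast Fintype.card_pos
  have hF : (0 : ℝ) < Fintype.card F := by exact_mod_cast Fintype.card_pos
  have h5 : ∀ q : ↥Q, ‖LinearMap.trace ℂ ↥(isoM ρ X 1) (σ ((q : G) * g * (q : G)⁻¹ * g⁻¹))‖ ≤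
      if (q : G) * g * (q : G)⁻¹ * g⁻¹ ∈ X.range then (finrank ℂ ↥(isoM ρ X 1) : ℝ) else B := by
    intro q
    split_ifs with hq
    · exact norm_trace_le σ _
    · rw [hσ, ← trace_proj' ρ (isoM ρ X 1) (isoM_inv hX 1) (prjQ ρ X 1) (prjQ_mem 1) (fun w hw => prjQ_eq hw),
        trace_prjQ_one]
      have hqQ : (q : G) * g * (q : G)⁻¹ * g⁻¹ ∈ Q := by
        have h6 : (q : G) * g * (q : G)⁻¹ * g⁻¹ = (q : G) * (g * (q : G)⁻¹ * g⁻¹) := by group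
        rw [h6]
        exact Q.mul_mem q.2 ((hg _).1 (Q.inv_mem q.2))
      generalize (q : G) * g * (q : G)⁻¹ * g⁻¹ = r at hq hqQ
      have h7 : ∀ t : F, ‖LinearMap.trace ℂ V (ρ (X (Multiplicative.ofAdd t) * r))‖ ≤ B := by
        intro t
        refine hB _ (Q.mul_mem (hXQ _) hqQ) fun h8 => hq ?_
        have h9 := Subgroup.mul_mem _ (Subgroup.inv_mem _ (⟨_, rfl⟩ : X (Multiplicative.ofAdd t) ∈ X.range)) h8
        rwa [inv_mul_cancel_left] at h9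
      rw [norm_mul, norm_inv, Complex.norm_natCast]
      have h11 : ‖∑ t : F, LinearMap.trace ℂ V (ρ (X (Multiplicative.ofAdd t) * r))‖ ≤ Fintype.card F * B := by
        refine (norm_sum_le _ _).trans ((Finset.sum_le_sum fun t _ => h7 t).trans ?_)
        rw [Finset.sum_const, Finset.card_univ, nsmul_eq_mul]
      calc (Fintype.card F : ℝ)⁻¹ * ‖∑ t : F, LinearMap.trace ℂ V (ρ (X (Multiplicative.ofAdd t) * r))‖
          ≤ (Fintype.card F : ℝ)⁻¹ * (Fintype.card F * B) := mul_le_mul_of_nonneg_left h11 (by positivity)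
        _ = B := by rw [← mul_assoc, inv_mul_cancel₀ hF.ne', one_mul]
  have hKc : (Finset.univ.filter fun q : ↥Q => (q : G) * g * (q : G)⁻¹ * g⁻¹ ∈ X.range).card =
      Nat.card {x : ↥Q // (x : G) * g * (x : G)⁻¹ * g⁻¹ ∈ X.range} := by
    rw [Nat.card_eq_fintype_card, Fintype.card_subtype]
  have h6 : (Fintype.card ↥Q : ℝ) * finrank ℂ ↥(fixM σ (comSet Q g)) ≤
      Nat.card {x : ↥Q // (x : G) * g * (x : G)⁻¹ * g⁻¹ ∈ X.range} * finrank ℂ ↥(isoM ρ X 1) + Fintype.card ↥Q * B := by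
    have h7 : ‖((Fintype.card ↥Q : ℂ) * finrank ℂ ↥(fixM σ (comSet Q g)))‖ =
        (Fintype.card ↥Q : ℝ) * finrank ℂ ↥(fixM σ (comSet Q g)) := by
      rw [norm_mul, Complex.norm_natCast, Complex.norm_natCast]
    rw [← h7, h4]
    refine (norm_sum_le _ _).trans ((Finset.sum_le_sum fun q _ => h5 q).trans ?_)
    have h8 : ∀ q : ↥Q, (if (q : G) * g * (q : G)⁻¹ * g⁻¹ ∈ X.range then (finrank ℂ ↥(isoM ρ X 1) : ℝ) else B) ≤
        (if (q : G) * g * (q : G)⁻¹ * g⁻¹ ∈ X.range then (finrank ℂ ↥(isoM ρ X 1) : ℝ) else 0) + B := by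
      intro q
      split_ifs
      · linarith
      · linarith
    refine (Finset.sum_le_sum fun q _ => h8 q).trans ?_
    rw [Finset.sum_add_distrib, ← Finset.sum_filter, Finset.sum_const, Finset.sum_const, Finset.card_univ, nsmul_eq_mul,
      nsmul_eq_mul, hKc]
  have hQc : (Nat.card Q : ℝ) = Fintype.card ↥Q := by rw [Nat.card_eq_fintype_card]
  rw [hQc] at hc
  have h7 : (Fintype.card ↥Q : ℝ) * finrank ℂ ↥(fixM σ (comSet Q g)) ≤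
      (Fintype.card ↥Q : ℝ) * (t * finrank ℂ ↥(isoM ρ X 1) + B) := by
    refine h6.trans ?_
    have h8 : (Nat.card {x : ↥Q // (x : G) * g * (x : G)⁻¹ * g⁻¹ ∈ X.range} : ℝ) * finrank ℂ ↥(isoM ρ X 1) ≤
        t * Fintype.card ↥Q * finrank ℂ ↥(isoM ρ X 1) := mul_le_mul_of_nonneg_right hc (Nat.cast_nonneg _)
    calc _ ≤ t * Fintype.card ↥Q * finrank ℂ ↥(isoM ρ X 1) + Fintype.card ↥Q * B := by linarith
      _ = _ := by ring
  exact le_of_mul_le_mul_left h7 hN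

/-- **`|{x ∈ Q : [x, g] ∈ X}| ≤ s² |Q|`.** -/
theorem tr_fixQ (ρ : Representation ℂ G V) (hX : ∀ (t : Multiplicative F) (g : G), g * X t = X t * g)
    (hXQ : ∀ t, X t ∈ Q) (hQX : ∀ q ∈ Q, ∀ q' ∈ Q, q * q' * q⁻¹ * q'⁻¹ ∈ X.range)
    (hnd : ∀ q ∈ Q, q ∉ X.range → ∀ t : F, ∃ q' ∈ Q, q' * q * q'⁻¹ * q⁻¹ = X (Multiplicative.ofAdd t))
    (hg : ∀ q, q ∈ Q ↔ g * q * g⁻¹ ∈ Q)
    {B : ℝ} (hB0 : 0 ≤ B) (hB : ∀ q ∈ Q, q ∉ X.range → ‖LinearMap.trace ℂ V (ρ q)‖ ≤ B) {s : ℝ} (hs : 0 ≤ s)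
    (hc : (Nat.card {x : ↥Q // (x : G) * g * (x : G)⁻¹ * g⁻¹ ∈ X.range} : ℝ) ≤ s ^ 2 * Nat.card Q) :
    ‖LinearMap.trace ℂ V (ρ g)‖ ≤ s ^ 2 * finrank ℂ ↥(isoM ρ X 1) + B + (finrank ℂ V - finrank ℂ ↥(isoM ρ X 1)) * s := by
  have h1 := ratioQ ρ hX hXQ hQX hnd hg hs hc
  have h2 := finrank_fixQ_le ρ hX hXQ hQX hg hB0 hB hc
  linarith

/-- **every `X t` is a commutator `[x, g]`.** -/
theorem tr_conjQ (ρ : Representation ℂ G V) (hX : ∀ (t : Multiplicative F) (g : G), g * X t = X t * g)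
    (hXQ : ∀ t, X t ∈ Q) (hQX : ∀ q ∈ Q, ∀ q' ∈ Q, q * q' * q⁻¹ * q'⁻¹ ∈ X.range) (hg : ∀ q, q ∈ Q ↔ g * q * g⁻¹ ∈ Q)
    {B : ℝ} (hB0 : 0 ≤ B) (hB : ∀ q ∈ Q, q ∉ X.range → ‖LinearMap.trace ℂ V (ρ q)‖ ≤ B) {t : ℝ}
    (hc : (Nat.card {x : ↥Q // (x : G) * g * (x : G)⁻¹ * g⁻¹ ∈ X.range} : ℝ) ≤ t * Nat.card Q)
    (hx : ∀ t : F, ∃ x : G, x * g * x⁻¹ * g⁻¹ = X (Multiplicative.ofAdd t)) :
    ‖LinearMap.trace ℂ V (ρ g)‖ ≤ t * finrank ℂ ↥(isoM ρ X 1) + B :=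
  (ratioQ_zero ρ hX hQX hg hx).trans (finrank_fixQ_le ρ hX hXQ hQX hg hB0 hB hc)

omit [Finite G] in
/-- `dim V^X` from the traces -/
theorem finrank_isoQ (ρ : Representation ℂ G V) (hX : ∀ (t : Multiplicative F) (g : G), g * X t = X t * g) :
    (finrank ℂ ↥(isoM ρ X 1) : ℂ) =
      (Fintype.card F : ℂ)⁻¹ * ∑ t : F, LinearMap.trace ℂ V (ρ (X (Multiplicative.ofAdd t))) := by
  have h2 := trace_proj' ρ (isoM ρ X 1) (isoM_inv hX 1) (prjQ ρ X 1) (prjQ_mem 1) (fun w hw => prjQ_eq hw) 1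
  rw [trace_prjQ_one, map_one (resRep ρ _ _), LinearMap.trace_one] at h2
  rw [← h2]
  congr 1
  refine Finset.sum_congr rfl fun t _ => ?_
  rw [mul_one]

end Cfsg.Agent.H980.RB
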