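import Mathlib

/-!
# A Weil-type bound for traces (S2464, `F₄(q)`; helper980)

* `exists_unitary` : a representation of a finite group is unitary in a suitable basis;
* `weil` : `Q` normalised by `g`, `Z ≤ Q` central in `⟨Q, g⟩` and acting by scalars, `tr q = 0` for `q ∈ Q ∖ Z`:
  `‖tr g‖² |Q| ≤ n² |{x ∈ Q : [x, g] ∈ Z}|`;
* `weil_zero` : `[x, g]` acts by a scalar `≠ 1`: `tr g = 0`.
-/

set_option autoImplicit false

namespace Cfsg.Agent.H980.RB

open Matrix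
open scoped ComplexConjugate ComplexOrder

variable {P : Type*} [Group P]

section

open scoped MatrixOrder Matrix.Norms.L2Operator

/-- a positive semidefinite matrix is `Cᴴ * C` -/
theorem exists_sq {n : ℕ} {B : Matrix (Fin n) (Fin n) ℂ} (h : B.PosSemidef) : ∃ C : Matrix (Fin n) (Fin n) ℂ, B = Cᴴ * C := by
  obtain ⟨C, hC⟩ := CStarAlgebra.nonneg_iff_eq_star_mul_self.mp (Matrix.nonneg_iff_posSemidef.2 h)
  exact ⟨C, hC⟩

end

/-- a representation of a finite group is unitary in a suitable basis -/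
theorem exists_unitary [Finite P] {V : Type*} [AddCommGroup V] [Module ℂ V] [FiniteDimensional ℂ V]
    (ρ : Representation ℂ P V) :
    ∃ U : P →* Matrix (Fin (Module.finrank ℂ V)) (Fin (Module.finrank ℂ V)) ℂ,
      (∀ g, (U g)ᴴ = U g⁻¹) ∧ (∀ g, (U g).trace = LinearMap.trace ℂ V (ρ g)) ∧
      ∀ (g : P) (c : ℂ), ρ g = c • 1 → U g = c • 1 := by
  classical
  have := Fintype.ofFinite P
  let b := Module.finBasis ℂ V
  set M : P → Matrix (Fin (Module.finrank ℂ V)) (Fin (Module.finrank ℂ V)) ℂ :=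
    fun g => LinearMap.toMatrix b b (ρ g) with hM
  have hM1 : M 1 = 1 := by
    simp only [hM, map_one]
    exact LinearMap.toMatrix_one b
  have hMm : ∀ g h, M (g * h) = M g * M h := by
    intro g h
    simp only [hM, map_mul]
    exact LinearMap.toMatrix_mul b (ρ g) (ρ h)
  set B : Matrix (Fin (Module.finrank ℂ V)) (Fin (Module.finrank ℂ V)) ℂ := ∑ g : P, (M g)ᴴ * M g with hB
  have hpd : B.PosDef := by
    rw [hB, ← Finset.add_sum_erase Finset.univ _ (Finset.mem_univ (1 : P))]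
    refine Matrix.PosDef.add_posSemidef ?_ ?_
    · rw [hM1]
      simpa using Matrix.PosDef.one
    · exact Matrix.posSemidef_sum _ (fun h _ => Matrix.posSemidef_conjTranspose_mul_self _)
  have hinv : ∀ g, (M g)ᴴ * B * M g = B := by
    intro g
    rw [hB, Finset.mul_sum, Finset.sum_mul]
    refine Fintype.sum_equiv (Equiv.mulRight g) _ _ (fun h => ?_)
    simp only [Equiv.coe_mulRight, hMm, Matrix.conjTranspose_mul, Matrix.mul_assoc]
  obtain ⟨C, hC⟩ := exists_sq hpd.posSemidef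
  have hdet : IsUnit B.det := (Matrix.isUnit_iff_isUnit_det _).1 hpd.isUnit
  have hCd : IsUnit C.det := by
    rw [hC, Matrix.det_mul] at hdet
    exact isUnit_of_mul_isUnit_right hdet
  have h1 : C * C⁻¹ = 1 := Matrix.mul_nonsing_inv _ hCd
  have h2 : C⁻¹ * C = 1 := Matrix.nonsing_inv_mul _ hCd
  let U : P →* Matrix (Fin (Module.finrank ℂ V)) (Fin (Module.finrank ℂ V)) ℂ :=
    { toFun := fun g => C * M g * C⁻¹
      map_one' := by rw [hM1, Matrix.mul_one, h1]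
      map_mul' := fun g h => by
        rw [hMm]
        calc C * (M g * M h) * C⁻¹ = C * M g * (1 : Matrix _ _ ℂ) * M h * C⁻¹ := by
              rw [Matrix.mul_one]; simp only [Matrix.mul_assoc]
          _ = C * M g * (C⁻¹ * C) * M h * C⁻¹ := by rw [h2]
          _ = C * M g * C⁻¹ * (C * M h * C⁻¹) := by simp only [Matrix.mul_assoc] }
  have hU : ∀ g, U g = C * M g * C⁻¹ := fun _ => rfl
  refine ⟨U, ?_, ?_, ?_⟩
  · intro g
    have h3 : (U g)ᴴ * U g = 1 := by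
      rw [hU, Matrix.conjTranspose_mul, Matrix.conjTranspose_mul]
      calc (C⁻¹)ᴴ * ((M g)ᴴ * Cᴴ) * (C * M g * C⁻¹) = (C⁻¹)ᴴ * ((M g)ᴴ * (Cᴴ * C) * M g) * C⁻¹ := by
            simp only [Matrix.mul_assoc]
        _ = (C⁻¹)ᴴ * B * C⁻¹ := by rw [← hC, hinv]
        _ = (C * C⁻¹)ᴴ * (C * C⁻¹) := by
          rw [hC, Matrix.conjTranspose_mul]
          simp only [Matrix.mul_assoc]
        _ = 1 := by rw [h1]; simp
    have h4 : U g * U g⁻¹ = 1 := by rw [← map_mul, mul_inv_cancel, map_one]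
    calc (U g)ᴴ = (U g)ᴴ * (U g * U g⁻¹) := by rw [h4, Matrix.mul_one]
      _ = U g⁻¹ := by rw [← Matrix.mul_assoc, h3, Matrix.one_mul]
  · intro g
    rw [hU, Matrix.trace_mul_comm, ← Matrix.mul_assoc, h2, Matrix.one_mul, LinearMap.trace_eq_matrix_trace ℂ b]
  · intro g c hc
    have h5 : M g = c • 1 := by
      simp only [hM, hc, map_smul]
      rw [LinearMap.toMatrix_one b]
    rw [hU, h5]
    simp [h1]

/-- the trace form is positive -/
theorem trace_nonneg {n : ℕ} (A : Matrix (Fin n) (Fin n) ℂ) : 0 ≤ ((A * Aᴴ).trace).re := by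
  have h := (Matrix.posSemidef_self_mul_conjTranspose A).trace_nonneg
  exact (Complex.le_def.1 h).1

/-- traces of unitary matrices: the Bessel inequality for a subgroup `Q`, a subgroup `Z ≤ Q` acting by scalars, with
trace `0` on `Q ∖ Z` -/
theorem bessel [Finite P] {n : ℕ} (U : P →* Matrix (Fin n) (Fin n) ℂ) (hU : ∀ g, (U g)ᴴ = U g⁻¹)
    (Q Z : Subgroup P) [Fintype ↥Q] (hsc : ∀ z ∈ Z, ∃ c : ℂ, U z = c • 1)
    (h0 : ∀ q ∈ Q, q ∉ Z → (U q).trace = 0) (hZQ : Z ≤ Q) (g : P) :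
    ∑ y : ↥Q, ‖(U (y * g)).trace‖ ^ 2 ≤ (Nat.card Z : ℝ) * (n : ℝ) ^ 2 := by
  classical
  have := Fintype.ofFinite ↥Z
  rcases Nat.eq_zero_or_pos n with hn | hn
  · subst hn
    simp [Matrix.trace]
  have hn0 : (0 : ℝ) < n := by exact_mod_cast hn
  set f : ↥Q → ℂ := fun y => (U (y * g)).trace with hf
  set S : ℝ := ∑ y : ↥Q, ‖f y‖ ^ 2 with hS
  set A : Matrix (Fin n) (Fin n) ℂ := ∑ y : ↥Q, conj (f y) • U (y : P) with hA
  have hAH : Aᴴ = ∑ y : ↥Q, f y • U ((y : P)⁻¹) := by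
    rw [hA, Matrix.conjTranspose_sum]
    refine Finset.sum_congr rfl fun y _ => ?_
    rw [Matrix.conjTranspose_smul, hU]
    simp
  have hAU : (A * U g).trace = (S : ℂ) := by
    rw [hA, Finset.sum_mul, Matrix.trace_sum, hS, Complex.ofReal_sum]
    refine Finset.sum_congr rfl fun y _ => ?_
    rw [Matrix.smul_mul, Matrix.trace_smul, ← map_mul, smul_eq_mul, Complex.ofReal_pow]
    exact (Complex.conj_mul' (f y))
  -- the norm of `A`
  have hcc : ∀ (w : P) (c : ℂ), U w = c • 1 → conj c * c = 1 := by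
    intro w c hw
    have h1 : (U w)ᴴ * U w = 1 := by rw [hU, ← map_mul, inv_mul_cancel, map_one]
    rw [hw, Matrix.conjTranspose_smul, Matrix.conjTranspose_one, Matrix.smul_mul, Matrix.mul_smul, Matrix.one_mul,
      smul_smul] at h1
    have h2 := congrFun (congrFun h1 ⟨0, hn⟩) ⟨0, hn⟩
    simpa using h2
  have key : ∀ w y : ↥Q, conj (f (w * y)) * f y * (U (w : P)).trace =
      if (w : P) ∈ Z then (n : ℂ) * ((‖f y‖ ^ 2 : ℝ) : ℂ) else 0 := by
    intro w y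
    split_ifs with hw
    · obtain ⟨c, hc⟩ := hsc _ hw
      have h1 : f (w * y) = c * f y := by
        simp only [hf, Subgroup.coe_mul, mul_assoc]
        rw [map_mul, hc, Matrix.smul_mul, Matrix.one_mul, Matrix.trace_smul, smul_eq_mul]
      rw [h1, hc, Matrix.trace_smul, Matrix.trace_one, Fintype.card_fin, smul_eq_mul, map_mul, Complex.ofReal_pow,
        ← Complex.conj_mul' (f y)]
      calc conj c * conj (f y) * f y * (c * n) = (conj c * c) * (n * (conj (f y) * f y)) := by ring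
        _ = _ := by rw [hcc _ _ hc, one_mul]
    · rw [h0 _ w.2 hw, mul_zero]
  have hAA : (A * Aᴴ).trace = ((Nat.card Z : ℝ) * n * S : ℝ) := by
    rw [hAH, hA, Finset.sum_mul, Matrix.trace_sum]
    have h1 : ∀ y : ↥Q, (conj (f y) • U (y : P) * ∑ y' : ↥Q, f y' • U ((y' : P)⁻¹)).trace =
        ∑ y' : ↥Q, conj (f y) * f y' * (U ((y * y'⁻¹ : ↥Q) : P)).trace := by
      intro y
      rw [Finset.mul_sum, Matrix.trace_sum]
      refine Finset.sum_congr rfl fun y' _ => ?_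
      rw [Matrix.smul_mul, Matrix.mul_smul, smul_smul, Matrix.trace_smul, smul_eq_mul, ← map_mul]
      rfl
    rw [Finset.sum_congr rfl fun y _ => h1 y, Finset.sum_comm]
    have h2 : ∀ y' : ↥Q, ∑ y : ↥Q, conj (f y) * f y' * (U ((y * y'⁻¹ : ↥Q) : P)).trace =
        (Nat.card Z : ℂ) * n * ((‖f y'‖ ^ 2 : ℝ) : ℂ) := by
      intro y'
      rw [← Equiv.sum_comp (Equiv.mulRight y')]
      have h3 : ∀ w : ↥Q, conj (f (Equiv.mulRight y' w)) * f y' * (U ((Equiv.mulRight y' w * y'⁻¹ : ↥Q) : P)).trace =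
          if (w : P) ∈ Z then (n : ℂ) * ((‖f y'‖ ^ 2 : ℝ) : ℂ) else 0 := by
        intro w
        rw [← key w y', Equiv.coe_mulRight, mul_inv_cancel_right]
      rw [Finset.sum_congr rfl fun w _ => h3 w, ← Finset.sum_filter, Finset.sum_const, nsmul_eq_mul]
      have h4 : (Finset.univ.filter fun w : ↥Q => (w : P) ∈ Z).card = Nat.card Z := by
        rw [← Fintype.card_subtype, ← Nat.card_eq_fintype_card]
        exact Nat.card_congr ⟨fun w => ⟨w.1.1, w.2⟩, fun z => ⟨⟨z.1, hZQ z.2⟩, z.2⟩, fun _ => rfl, fun _ => rfl⟩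
      rw [h4, mul_assoc]
    rw [Finset.sum_congr rfl fun y _ => h2 y, ← Finset.mul_sum, hS]
    push_cast
    rfl
  -- Bessel
  set t : ℝ := ((Nat.card Z : ℝ) * n)⁻¹ with ht
  have hc : (0 : ℝ) < (Nat.card Z : ℝ) * n := mul_pos (by exact_mod_cast Nat.card_pos) hn0
  have h1 := trace_nonneg ((U g)ᴴ - (t : ℂ) • A)
  have h2 : ((U g)ᴴ - (t : ℂ) • A) * ((U g)ᴴ - (t : ℂ) • A)ᴴ =
      (U g)ᴴ * U g - (t : ℂ) • ((U g)ᴴ * Aᴴ) - (t : ℂ) • (A * U g) + ((t : ℂ) * t) • (A * Aᴴ) := by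
    rw [Matrix.conjTranspose_sub, Matrix.conjTranspose_smul, Matrix.conjTranspose_conjTranspose]
    simp only [Complex.star_def, Complex.conj_ofReal, Matrix.sub_mul, Matrix.mul_sub, Matrix.smul_mul, Matrix.mul_smul,
      smul_smul, smul_sub]
    abel
  have h3 : ((U g)ᴴ * U g).trace = (n : ℂ) := by
    rw [hU, ← map_mul, inv_mul_cancel, map_one, Matrix.trace_one, Fintype.card_fin]
  have h4 : ((U g)ᴴ * Aᴴ).trace = (S : ℂ) := by
    rw [← Matrix.conjTranspose_mul, Matrix.trace_conjTranspose, hAU]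
    exact Complex.conj_ofReal S
  rw [h2, Matrix.trace_add, Matrix.trace_sub, Matrix.trace_sub, Matrix.trace_smul, Matrix.trace_smul, Matrix.trace_smul,
    h3, h4, hAU, hAA] at h1
  have h5 : ((n : ℂ) - (t : ℂ) • (S : ℂ) - (t : ℂ) • (S : ℂ) + ((t : ℂ) * t) • (((Nat.card Z : ℝ) * n * S : ℝ) : ℂ)) =
      ((n - t * S - t * S + t * t * ((Nat.card Z : ℝ) * n * S) : ℝ) : ℂ) := by
    push_cast
    simp only [smul_eq_mul]
  rw [h5, Complex.ofReal_re] at h1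
  have h6 : t * ((Nat.card Z : ℝ) * n) = 1 := by rw [ht]; exact inv_mul_cancel₀ hc.ne'
  have h7 : n - t * S - t * S + t * t * ((Nat.card Z : ℝ) * n * S) = n - t * S := by
    have : t * t * ((Nat.card Z : ℝ) * n * S) = t * S * (t * ((Nat.card Z : ℝ) * n)) := by ring
    rw [this, h6]
    ring
  rw [h7] at h1
  have h8 : S = t * S * ((Nat.card Z : ℝ) * n) := by
    calc S = S * (t * ((Nat.card Z : ℝ) * n)) := by rw [h6, mul_one]
      _ = _ := by ring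
  rw [h8]
  calc t * S * ((Nat.card Z : ℝ) * n) ≤ n * ((Nat.card Z : ℝ) * n) := by
        apply mul_le_mul_of_nonneg_right _ hc.le
        linarith
    _ = (Nat.card Z : ℝ) * (n : ℝ) ^ 2 := by ring

/-- **Weil-type bound.** `Q` a subgroup normalised by `g`, `Z ≤ Q` acting by scalars and central in `⟨Q, g⟩`, trace `0`
on `Q ∖ Z`. -/
theorem weil_mat [Finite P] {n : ℕ} (U : P →* Matrix (Fin n) (Fin n) ℂ) (hU : ∀ g, (U g)ᴴ = U g⁻¹)
    (Q Z : Subgroup P) (hsc : ∀ z ∈ Z, ∃ c : ℂ, U z = c • 1)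
    (h0 : ∀ q ∈ Q, q ∉ Z → (U q).trace = 0) (hZQ : Z ≤ Q) (g : P) (hg : ∀ q ∈ Q, g * q * g⁻¹ ∈ Q)
    (hZq : ∀ z ∈ Z, ∀ q ∈ Q, z * q = q * z) :
    ‖(U g).trace‖ ^ 2 * Nat.card Q ≤ (n : ℝ) ^ 2 * Nat.card {x : ↥Q // (x : P) * g * (x : P)⁻¹ * g⁻¹ ∈ Z} := by
  classical
  have := Fintype.ofFinite ↥Q
  have := Fintype.ofFinite ↥Z
  set K : ℕ := Nat.card {x : ↥Q // (x : P) * g * (x : P)⁻¹ * g⁻¹ ∈ Z} with hK
  have hB := bessel U hU Q Z hsc h0 hZQ g
  set f : ↥Q → ℂ := fun y => (U (y * g)).trace with hf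
  -- the commutator
  let cm : ↥Q → ↥Q := fun x => ⟨(x : P) * g * (x : P)⁻¹ * g⁻¹, by
    have h1 := hg _ (Q.inv_mem x.2)
    have h2 : (x : P) * g * (x : P)⁻¹ * g⁻¹ = (x : P) * (g * (x : P)⁻¹ * g⁻¹) := by group
    rw [h2]
    exact Q.mul_mem x.2 h1⟩
  have hcm : ∀ x, (cm x : P) = (x : P) * g * (x : P)⁻¹ * g⁻¹ := fun _ => rfl
  have hnc : ∀ (z : ↥Z) (c : ℂ), U (z : P) = c • 1 → 0 < n → ‖c‖ = 1 := by
    intro z c hc hn
    have h1 : (U (z : P))ᴴ * U z = 1 := by rw [hU, ← map_mul, inv_mul_cancel, map_one]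
    rw [hc, Matrix.conjTranspose_smul, Matrix.conjTranspose_one, Matrix.smul_mul, Matrix.mul_smul, Matrix.one_mul,
      smul_smul] at h1
    have h2 := congrFun (congrFun h1 ⟨0, hn⟩) ⟨0, hn⟩
    have h3 : conj c * c = 1 := by simpa using h2
    have h4 := congrArg norm h3
    rw [norm_mul, RCLike.norm_conj, norm_one] at h4
    nlinarith [norm_nonneg c]
  have hval : ∀ (x : ↥Q) (z : ↥Z), ‖f (⟨z.1, hZQ z.2⟩ * cm x)‖ ^ 2 = ‖(U g).trace‖ ^ 2 := by
    intro x z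
    rcases Nat.eq_zero_or_pos n with hn | hn
    · subst hn
      simp [hf, Matrix.trace]
    obtain ⟨c, hc⟩ := hsc _ z.2
    have h1 : f (⟨z.1, hZQ z.2⟩ * cm x) = c * (U g).trace := by
      have h2 : ((⟨z.1, hZQ z.2⟩ * cm x : ↥Q) : P) * g = (z : P) * ((x : P) * g * (x : P)⁻¹) := by
        rw [Subgroup.coe_mul, hcm]
        group
      simp only [hf]
      rw [h2, map_mul, hc, Matrix.smul_mul, Matrix.one_mul, Matrix.trace_smul, smul_eq_mul, map_mul, map_mul,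
        Matrix.trace_mul_comm, ← Matrix.mul_assoc, ← map_mul, inv_mul_cancel, map_one, Matrix.one_mul]
    rw [h1, norm_mul, hnc z c hc hn, one_mul]
  -- double counting
  have hfib : ∀ d : ↥Q, (Finset.univ.filter fun p : ↥Q × ↥Z => (⟨p.2.1, hZQ p.2.2⟩ * cm p.1 : ↥Q) = d).card ≤ K := by
    intro d
    by_cases hne : ∃ p₀ : ↥Q × ↥Z, (⟨p₀.2.1, hZQ p₀.2.2⟩ * cm p₀.1 : ↥Q) = d
    · obtain ⟨p₀, hp₀⟩ := hne
      rw [hK, Nat.card_eq_fintype_card, Fintype.card_subtype]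
      refine Finset.card_le_card_of_injOn (fun p => p₀.1⁻¹ * p.1) ?_ ?_
      · intro p hp
        simp only [Finset.coe_filter, Finset.mem_univ, true_and, Set.mem_ofPred_eq] at hp ⊢
        have h1 : (p.2 : P) * ((p.1 : P) * g * (p.1 : P)⁻¹ * g⁻¹) = (p₀.2 : P) * ((p₀.1 : P) * g * (p₀.1 : P)⁻¹ * g⁻¹) := by
          have := congrArg Subtype.val (hp.trans hp₀.symm)
          simpa [hcm] using this
        have hz0 : ((p.2 : P)⁻¹ * p₀.2) ∈ Z := Z.mul_mem (Z.inv_mem p.2.2) p₀.2.2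
        have h2 : (p.1 : P) * g * (p.1 : P)⁻¹ = ((p.2 : P)⁻¹ * p₀.2) * ((p₀.1 : P) * g * (p₀.1 : P)⁻¹) := by
          have h3 : (p.1 : P) * g * (p.1 : P)⁻¹ * g⁻¹ = (p.2 : P)⁻¹ * ((p₀.2 : P) * ((p₀.1 : P) * g * (p₀.1 : P)⁻¹ * g⁻¹)) := by
            rw [← h1]; group
          calc (p.1 : P) * g * (p.1 : P)⁻¹ = (p.1 : P) * g * (p.1 : P)⁻¹ * g⁻¹ * g := by group
            _ = _ := by rw [h3]; group
        have h4 : ((p₀.1⁻¹ * p.1 : ↥Q) : P) * g * ((p₀.1⁻¹ * p.1 : ↥Q) : P)⁻¹ * g⁻¹ = (p.2 : P)⁻¹ * p₀.2 := by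
          set w : P := (p.2 : P)⁻¹ * p₀.2 with hw
          have h5 : (p₀.1 : P)⁻¹ * w = w * (p₀.1 : P)⁻¹ := (hZq w hz0 _ (Q.inv_mem p₀.1.2)).symm
          calc ((p₀.1⁻¹ * p.1 : ↥Q) : P) * g * ((p₀.1⁻¹ * p.1 : ↥Q) : P)⁻¹ * g⁻¹
              = (p₀.1 : P)⁻¹ * ((p.1 : P) * g * (p.1 : P)⁻¹) * p₀.1 * g⁻¹ := by
                rw [Subgroup.coe_mul, Subgroup.coe_inv]; group
            _ = (p₀.1 : P)⁻¹ * w * (p₀.1 : P) := by rw [h2]; group
            _ = w * (p₀.1 : P)⁻¹ * (p₀.1 : P) := by rw [h5]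
            _ = w := by group
        rw [h4]
        exact hz0
      · intro p hp p' hp' hpp
        simp only [Finset.coe_filter, Finset.mem_univ, true_and, Set.mem_ofPred_eq] at hp hp'
        have h1 : p.1 = p'.1 := mul_left_cancel hpp
        have h2 : (⟨p.2.1, hZQ p.2.2⟩ : ↥Q) = ⟨p'.2.1, hZQ p'.2.2⟩ := by
          have h3 := hp.trans hp'.symm
          rw [h1] at h3
          exact mul_right_cancel h3
        exact Prod.ext h1 (Subtype.ext (congrArg (fun q : ↥Q => (q : P)) h2))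
    · have : (Finset.univ.filter fun p : ↥Q × ↥Z => (⟨p.2.1, hZQ p.2.2⟩ * cm p.1 : ↥Q) = d) = ∅ := by
        rw [Finset.filter_eq_empty_iff]
        intro p _ hp
        exact hne ⟨p, hp⟩
      rw [this, Finset.card_empty]
      exact Nat.zero_le _
  have h1 : ∑ p : ↥Q × ↥Z, ‖f (⟨p.2.1, hZQ p.2.2⟩ * cm p.1)‖ ^ 2 ≤ (K : ℝ) * ∑ y : ↥Q, ‖f y‖ ^ 2 := by
    rw [← Finset.sum_fiberwise (s := Finset.univ) (g := fun p : ↥Q × ↥Z => (⟨p.2.1, hZQ p.2.2⟩ * cm p.1 : ↥Q)),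
      Finset.mul_sum]
    refine Finset.sum_le_sum fun d _ => ?_
    rw [Finset.sum_congr rfl (g := fun _ => ‖f d‖ ^ 2) (fun p hp => by
      rw [Finset.mem_filter] at hp
      rw [hp.2]), Finset.sum_const, nsmul_eq_mul]
    exact mul_le_mul_of_nonneg_right (by exact_mod_cast hfib d) (sq_nonneg _)
  have h2 : ∑ p : ↥Q × ↥Z, ‖f (⟨p.2.1, hZQ p.2.2⟩ * cm p.1)‖ ^ 2 = (Nat.card Q : ℝ) * Nat.card Z * ‖(U g).trace‖ ^ 2 := by
    rw [Finset.sum_congr rfl fun p _ => hval p.1 p.2, Finset.sum_const, nsmul_eq_mul, Finset.card_univ, Fintype.card_prod,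
      Nat.card_eq_fintype_card, Nat.card_eq_fintype_card]
    push_cast
    rfl
  have h3 : (Nat.card Q : ℝ) * Nat.card Z * ‖(U g).trace‖ ^ 2 ≤ (K : ℝ) * ((Nat.card Z : ℝ) * (n : ℝ) ^ 2) := by
    rw [← h2]
    exact h1.trans (mul_le_mul_of_nonneg_left hB (Nat.cast_nonneg _))
  have hz : (0 : ℝ) < Nat.card Z := by exact_mod_cast Nat.card_pos
  refine le_of_mul_le_mul_left (?_ : (Nat.card Z : ℝ) * _ ≤ (Nat.card Z : ℝ) * _) hz
  calc (Nat.card Z : ℝ) * (‖(U g).trace‖ ^ 2 * Nat.card Q) = (Nat.card Q : ℝ) * Nat.card Z * ‖(U g).trace‖ ^ 2 := by ring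
    _ ≤ _ := h3
    _ = _ := by ring

/-- **Weil-type bound** for a representation. -/
theorem weil [Finite P] {V : Type*} [AddCommGroup V] [Module ℂ V] [FiniteDimensional ℂ V] (ρ : Representation ℂ P V)
    (Q Z : Subgroup P) (hsc : ∀ z ∈ Z, ∃ c : ℂ, ρ z = c • 1)
    (h0 : ∀ q ∈ Q, q ∉ Z → ∃ q' : P, ∃ c : ℂ, c ≠ 1 ∧ ρ (q' * q * q'⁻¹ * q⁻¹) = c • 1) (hZQ : Z ≤ Q) (g : P)
    (hg : ∀ q ∈ Q, g * q * g⁻¹ ∈ Q) (hZq : ∀ z ∈ Z, ∀ q ∈ Q, z * q = q * z) :
    ‖LinearMap.trace ℂ V (ρ g)‖ ^ 2 * Nat.card Q ≤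
      (Module.finrank ℂ V : ℝ) ^ 2 * Nat.card {x : ↥Q // (x : P) * g * (x : P)⁻¹ * g⁻¹ ∈ Z} := by
  obtain ⟨U, hU, hUt, hUs⟩ := exists_unitary ρ
  rw [← hUt]
  refine weil_mat U hU Q Z (fun z hz => ?_) (fun q hq hqz => ?_) hZQ g hg hZq
  · obtain ⟨c, hc⟩ := hsc z hz
    exact ⟨c, hUs z c hc⟩
  · obtain ⟨q', c, hc1, hc⟩ := h0 q hq hqz
    have h1 := hUs _ c hc
    have h2 : (U q).trace = c * (U q).trace := by
      calc (U q).trace = (U (q' * q * q'⁻¹)).trace := by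
            rw [map_mul, map_mul, Matrix.trace_mul_comm, ← Matrix.mul_assoc, ← map_mul, inv_mul_cancel, map_one,
              Matrix.one_mul]
        _ = (U (q' * q * q'⁻¹ * q⁻¹) * U q).trace := by rw [← map_mul, inv_mul_cancel_right]
        _ = c * (U q).trace := by rw [h1, Matrix.smul_mul, Matrix.one_mul, Matrix.trace_smul, smul_eq_mul]
    have h3 : (1 - c) * (U q).trace = 0 := by rw [sub_mul, one_mul, ← h2, sub_self]
    rcases mul_eq_zero.1 h3 with h4 | h4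
    · exact absurd (sub_eq_zero.1 h4).symm hc1
    · exact h4

/-- the trace vanishes if a commutator `[x, g]` acts by a scalar `≠ 1` -/
theorem weil_zero {V : Type*} [AddCommGroup V] [Module ℂ V] [FiniteDimensional ℂ V] (ρ : Representation ℂ P V)
    {g x : P} {c : ℂ} (hc1 : c ≠ 1) (hc : ρ (x * g * x⁻¹ * g⁻¹) = c • 1) : LinearMap.trace ℂ V (ρ g) = 0 := by
  have h2 : LinearMap.trace ℂ V (ρ g) = c * LinearMap.trace ℂ V (ρ g) := by
    calc LinearMap.trace ℂ V (ρ g) = LinearMap.trace ℂ V (ρ (x * g * x⁻¹)) := by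
          rw [map_mul ρ, map_mul ρ, LinearMap.trace_mul_comm, ← mul_assoc, ← map_mul, inv_mul_cancel, map_one, one_mul]
      _ = LinearMap.trace ℂ V (ρ (x * g * x⁻¹ * g⁻¹) * ρ g) := by rw [← map_mul, inv_mul_cancel_right]
      _ = c * LinearMap.trace ℂ V (ρ g) := by rw [hc, smul_mul_assoc, one_mul, map_smul, smul_eq_mul]
  have h3 : (1 - c) * LinearMap.trace ℂ V (ρ g) = 0 := by rw [sub_mul, one_mul, ← h2, sub_self]
  rcases mul_eq_zero.1 h3 with h4 | h4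
  · exact absurd (sub_eq_zero.1 h4).symm hc1
  · exact h4

end Cfsg.Agent.H980.RB
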